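import Cfsg.Agent.Lib.ThreeTransp.M24.Graph
import Cfsg.Agent.Lib.ThreeTransp.M23.Pair
import Cfsg.Agent.Lib.ThreeTransp.M23.FarPair

/-!
The centraliser of a member, the order and the width of a group of type M(24).
-/

set_option autoImplicit false
set_option linter.unusedSectionVars false

namespace Cfsg.Agent.ThreeTransp.M24.Local

open Cfsg.Agent.ThreeTransp
open Cfsg.Agent.ThreeTransp.Factor (nb Hd Sd Dl Dq Sep mem_Hd Hd_commute)
open Cfsg.Agent.ThreeTransp.Cover (mem_nb_symm conj_nb)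
open Cfsg.Agent.ThreeTransp.RankThree (loc mem_loc loc_commute)
open Cfsg.Agent.GenA.Tower (pr pr_mk pr_mul pr_inv pr_mem pr_inj pr_comm pr_nb image_nb_pr ncard_pr
  image_one image_two conj_fix_nb)
open Cfsg.Agent.ThreeTransp.M24.Facts (sep m23 exists_comm)

universe u

theorem pr_prod {G : Type u} [Group G] {D : Set G} {a : G} :
    ∀ l : List G, (∀ x ∈ l, x ∈ nb D a) →
      l.prod ∈ Hd D a ∧ pr D a l.prod = (l.map (pr D a)).prod := by
  intro l hl
  induction l with
  | nil => exact ⟨one_mem _, by rw [List.prod_nil, pr_mk (one_mem _)]; rfl⟩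
  | cons x l ih =>
    obtain ⟨h1, h2⟩ := ih fun y hy => hl y (List.mem_cons_of_mem _ hy)
    have hx := mem_Hd (hl x (List.mem_cons_self ..))
    exact ⟨by rw [List.prod_cons]; exact mul_mem hx h1,
      by rw [List.prod_cons, pr_mul hx h1, h2, List.map_cons, List.prod_cons]⟩

variable {G : Type u} [Group G] [Finite G] {D : Set G}
  (hD : Cfsg.IsThreeTranspositionGroup D)
  (hprim : Cfsg.IsPrimitiveUnderConj D) (h24 : Cfsg.IsOfTypeM24 G D)
include hD hprim h24

/-- Nothing but the member centralises its local subgroup. -/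
theorem centralizes_loc {a z : G} (ha : a ∈ D) (hz : ∀ h ∈ loc D a, Commute z h) :
    z = 1 ∨ z = a := by
  have hw := exists_comm hD hprim h24
  obtain ⟨c, hc, hac⟩ := Classes.exists_noncomm hD hprim.1 hprim.2.1 ha
  obtain ⟨x, hxa, hxc⟩ := GenA.Tower.pair_nonempty hD hprim hw ha hc hac
  have hza : Commute z a := hz a (mem_loc ha (Commute.refl a))
  have hzx : Commute z x := hz x (mem_loc hxa.1 hxa.2.2)
  have hs := sep hD hprim h24 hxa.1
  have an : a ∈ nb D x := mem_nb_symm ha hxa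
  have cn : c ∈ nb D x := mem_nb_symm hc hxc
  have hzc : z * c * z⁻¹ ∈ nb D x :=
    conj_fix_nb hD (RankThree.conj_self_of_commute hzx.symm) cn
  have key := M23.Far.hull (Facts.grp hD hprim h24 hxa.1) (Facts.prim hD hprim h24 hxa.1)
    (m23 hD hprim h24 hxa.1)
    (pr_mem an) (pr_mem cn) (fun h => hac ((pr_comm hD an cn).1 h)) (pr_mem hzc) (by
      intro t ht
      obtain ⟨t, ⟨⟨htx, hta⟩, htc⟩, rfl⟩ :
          t ∈ pr D x '' (nb D x ∩ nb D a ∩ nb D c) := by
        rw [image_two hD hs an cn]; exact ht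
      refine (pr_comm hD hzc htx).2 ?_
      have hzt : z * t * z⁻¹ = t := mul_inv_eq_iff_eq_mul.2 (hz t (mem_loc hta.1 hta.2.2)).eq
      have := (Basic.commute_conj (g := z)).2 htc.2.2
      rw [hzt] at this
      exact this)
  have main : ∀ w : G, (∀ h ∈ loc D a, Commute w h) → Commute w c → w = 1 := by
    intro w hw1 hw2
    rw [← Subgroup.mem_bot, ← h24.1, Subgroup.mem_center_iff]
    intro g
    have hle : Subgroup.closure ({y : G | y ∈ D ∧ Commute a y} ∪ {c}) ≤
        Subgroup.centralizer ({w} : Set G) := by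
      rw [Subgroup.closure_le]
      rintro y hy
      rw [SetLike.mem_coe, Subgroup.mem_centralizer_iff]
      rintro _ rfl
      rcases hy with hy | rfl
      · exact (hw1 y (mem_loc hy.1 hy.2)).eq
      · exact hw2.eq
    rw [RankThree.closure_eq_top hD hprim hw ha hc hac] at hle
    exact (Subgroup.mem_centralizer_iff.1 (hle (Subgroup.mem_top g)) w rfl).symm
  rcases key with h | h | h
  · exfalso
    refine hac ?_
    have e : z * a * z⁻¹ = a := mul_inv_eq_iff_eq_mul.2 hza.eq
    exact (mul_left_cancel (mul_right_cancel ((pr_inj hs hzc an h).trans e.symm))) ▸ Commute.refl a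
  · exact Or.inl (main z hz (mul_inv_eq_iff_eq_mul.1 (pr_inj hs hzc cn h)))
  · right
    have hac' : a * c * a ∈ nb D x := by
      have := conj_fix_nb hD (RankThree.conj_self_of_commute an.2.2) cn
      rwa [Classes.inv hD ha] at this
    rw [← pr_mul (mem_Hd an) (mem_Hd cn),
      ← pr_mul (mul_mem (mem_Hd an) (mem_Hd cn)) (mem_Hd an)] at h
    have h' := pr_inj hs hzc hac' h
    have h1 := main (a * z) (fun t ht => ((loc_commute ht)).mul_left (hz t ht)) (by
      show a * z * c = c * (a * z)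
      calc a * z * c = a * (z * c * z⁻¹) * z := by group
        _ = (a * a) * c * (a * z) := by rw [h']; simp [mul_assoc]
        _ = c * (a * z) := by rw [Classes.sq hD ha, one_mul])
    calc z = (a * a) * z := by rw [Classes.sq hD ha, one_mul]
      _ = a * (a * z) := mul_assoc _ _ _
      _ = a := by rw [h1, mul_one]

theorem pr_eq_one {a z : G} (ha : a ∈ D) (hz : z ∈ Hd D a) (h : pr D a z = 1) :
    z = 1 ∨ z = a := by
  rw [pr_mk hz, QuotientGroup.eq_one_iff, Subgroup.mem_center_iff] at h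
  refine centralizes_loc hD hprim h24 ha fun y hy => ?_
  induction hy using Subgroup.closure_induction with
  | one => exact Commute.one_right _
  | mul p q _ _ hp hq => exact hp.mul_right hq
  | inv p _ hp => exact hp.inv_right
  | mem p hp =>
    by_cases e : p = a
    · rw [e]; exact (Hd_commute hz).symm
    · exact (congrArg Subtype.val (h ⟨p, mem_Hd ⟨hp.1, e, hp.2⟩⟩)).symm

theorem mem_Hd_self {a : G} (ha : a ∈ D) : a ∈ Hd D a := by
  classical
  have hs := sep hD hprim h24 ha
  have hg := Facts.grp hD hprim h24 ha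
  have hp := Facts.prim hD hprim h24 ha
  have h23 := m23 hD hprim h24 ha
  obtain ⟨b, hb⟩ := Set.nonempty_of_ncard_ne_zero
    ((Graph.ncard_nb hD hprim h24 ha).trans_ne (by norm_num : (31671 : ℕ) ≠ 0))
  obtain ⟨c, hc⟩ := Set.nonempty_of_ncard_ne_zero
    ((Graph.ncard_one hD hprim h24 ha hb).trans_ne (by norm_num : (3510 : ℕ) ≠ 0))
  have hβ : pr D a b ∈ Dq D a := pr_mem hb
  have hγ : pr D a c ∈ nb (Dq D a) (pr D a b) := (pr_nb hD hs hb hc.1).2 hc.2
  obtain ⟨l, hlen, hnd, hmem, hcomm, hprod⟩ :=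
    M22.exists_six_one (GenA.Tower.M23.grp hg hp h23 hβ) (GenA.Tower.M23.prim hg hp h23 hβ)
      (GenA.Tower.M23.t22 hg hp h23 hβ) (pr_mem hγ)
  have hs2 := GenA.Tower.M23.sep hg hp h23 hβ
  have hlift : ∀ q ∈ l, ∃ x, x ∈ nb D a ∩ nb D b ∧
      pr (Dq D a) (pr D a b) (pr D a x) = q := fun q hq => by
    obtain ⟨y, hy, rfl⟩ : q ∈ pr (Dq D a) (pr D a b) '' nb (Dq D a) (pr D a b) := by
      rw [image_nb_pr]; exact (hmem q hq).1
    obtain ⟨x, hx, rfl⟩ : y ∈ pr D a '' nb D a := by rw [image_nb_pr]; exact hy.1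
    exact ⟨x, ⟨hx, (pr_nb hD hs hb hx).1 hy⟩, rfl⟩
  choose f hf hfe using hlift
  obtain ⟨m, hm⟩ : ∃ m : List G, m = l.pmap f fun _ h => h := ⟨_, rfl⟩
  have hmap : (m.map (pr D a)).map (pr (Dq D a) (pr D a b)) = l := by
    subst hm
    rw [List.map_map, List.map_pmap]
    simp only [Function.comp, hfe]
    exact (List.pmap_eq_map (f := id) _).trans (List.map_id _)
  have hmem' : ∀ x ∈ m, x ∈ nb D a ∩ nb D b := fun x hx => by
    subst hm
    obtain ⟨q, hq, rfl⟩ := List.mem_pmap.1 hx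
    exact hf q hq
  have hmS : ∀ x ∈ m.map (pr D a), x ∈ nb (Dq D a) (pr D a b) := fun x hx => by
    obtain ⟨y, hy, rfl⟩ := List.mem_map.1 hx
    exact (pr_nb hD hs hb (hmem' y hy).1).2 (hmem' y hy).2
  obtain ⟨hS1, hS2⟩ := pr_prod (D := Dq D a) (m.map (pr D a)) hmS
  rw [hmap, hprod] at hS2
  have hz : (m.map (pr D a)).prod = 1 ∨ (m.map (pr D a)).prod = pr D a b := by
    rw [pr_mk hS1, QuotientGroup.eq_one_iff, GenA.Tower.M23.center_eq hg hp h23 hβ,
      Subgroup.mem_subgroupOf] at hS2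
    exact M23.Pair.mem_zpowers_cases hg hβ hS2
  obtain ⟨hH, hpr⟩ := pr_prod (D := D) m fun x hx => (hmem' x hx).1
  rw [← hpr] at hz
  have hndS : m.Nodup := ((hmap ▸ hnd : ((m.map (pr D a)).map _).Nodup).of_map _).of_map _
  have hlm : m.length = 6 := by rw [hm, List.length_pmap, hlen]
  have hcm : ∀ x ∈ m, ∀ y ∈ m, Commute x y := fun x hx y hy =>
    (pr_comm hD (hmem' x hx).1 (hmem' y hy).1).1
      ((pr_comm hg (hmS _ (List.mem_map_of_mem hx)) (hmS _ (List.mem_map_of_mem hy))).1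
        (hcomm _ (hmap ▸ List.mem_map_of_mem (List.mem_map_of_mem hx)) _
          (hmap ▸ List.mem_map_of_mem (List.mem_map_of_mem hy))))
  have hrel := Factor.M24_rel hD hprim h24
  rcases hz with e | e
  · rcases pr_eq_one hD hprim h24 ha hH e with e' | e'
    · exact absurd e' (hrel m hndS (by omega) (by omega) (fun x hx => (hmem' x hx).1.1) hcm)
    · exact e' ▸ hH
  · have e2 : pr D a (b * m.prod) = 1 := by
      rw [pr_mul (mem_Hd hb) hH, e, Classes.sq hg hβ]
    rcases pr_eq_one hD hprim h24 ha (mul_mem (mem_Hd hb) hH) e2 with e' | e'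
    · refine absurd (List.prod_cons.trans e') (hrel (b :: m) ?_ (by simp) (by simp; omega) ?_ ?_)
      · exact List.nodup_cons.2 ⟨fun h => (hmem' b h).2.2.1 rfl, hndS⟩
      · simp only [List.forall_mem_cons]
        exact ⟨hb.1, fun x hx => (hmem' x hx).1.1⟩
      · intro x hx y hy
        rcases List.mem_cons.1 hx with hx | hx <;> rcases List.mem_cons.1 hy with hy | hy
        exacts [by rw [hx, hy], by rw [hx]; exact (hmem' y hy).2.2.2,
          by rw [hy]; exact (hmem' x hx).2.2.2.symm, hcm x hx y hy]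
    · have h2 := mul_mem (mem_Hd (D := D) hb) hH
      rwa [e'] at h2

theorem loc_eq {a : G} (ha : a ∈ D) : loc D a = Hd D a := by
  refine le_antisymm ((Subgroup.closure_le _).2 fun y hy => ?_)
    (Subgroup.closure_mono fun y hy => ⟨hy.1, hy.2.2⟩)
  by_cases e : y = a
  · rw [e]; exact mem_Hd_self hD hprim h24 ha
  · exact mem_Hd ⟨hy.1, e, hy.2⟩

/-- The centre of the local subgroup. -/
theorem center_eq {a : G} (ha : a ∈ D) :
    Subgroup.center ↥(Hd D a) = (Subgroup.zpowers a).subgroupOf (Hd D a) := by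
  ext z
  rw [Subgroup.mem_subgroupOf]
  constructor
  · intro hz
    rcases centralizes_loc hD hprim h24 ha (z := (z : G)) (fun h hh => by
        rw [loc_eq hD hprim h24 ha] at hh
        exact (congrArg Subtype.val (Subgroup.mem_center_iff.1 hz ⟨h, hh⟩)).symm) with e | e
    · rw [e]; exact one_mem _
    · rw [e]; exact Subgroup.mem_zpowers a
  · intro hz
    rw [Subgroup.mem_center_iff]
    intro h
    obtain ⟨k, hk⟩ := Subgroup.mem_zpowers_iff.1 hz
    refine Subtype.ext ?_
    simp only [Subgroup.coe_mul, ← hk]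
    exact ((Hd_commute h.2).zpow_left k).eq.symm

/-- Local elements centralising a neighbour are generated by the members commuting with both. -/
theorem loc_inf {w a h : G} (hw : w ∈ D) (ha : a ∈ nb D w) (hh : h ∈ loc D w)
    (hha : Commute h a) :
    h ∈ Subgroup.closure {x : G | x ∈ D ∧ Commute w x ∧ Commute a x} := by
  rw [loc_eq hD hprim h24 hw] at hh
  have hs := sep hD hprim h24 hw
  have hg := Facts.grp hD hprim h24 hw
  have hcent : pr D w h ∈ Subgroup.centralizer ({pr D w a} : Set (Sd D w)) :=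
    Subgroup.mem_centralizer_iff.2 (by
      intro x hx
      rw [Set.mem_singleton_iff.1 hx, ← pr_mul hh (mem_Hd ha), ← pr_mul (mem_Hd ha) hh, hha.eq])
  rw [GenA.Tower.M23.centralizer_eq hg (Facts.prim hD hprim h24 hw) (m23 hD hprim h24 hw)
    (pr_mem ha)] at hcent
  have key : ∀ q ∈ Hd (Dq D w) (pr D w a), ∃ m ∈ Hd D w,
      m ∈ Subgroup.closure {x : G | x ∈ D ∧ Commute w x ∧ Commute a x} ∧ pr D w m = q := by
    intro q hq
    induction hq using Subgroup.closure_induction with
    | one => exact ⟨1, one_mem _, one_mem _, by rw [pr_mk (one_mem _)]; rfl⟩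
    | mul p q _ _ hp hq =>
      obtain ⟨m, h1, h2, rfl⟩ := hp
      obtain ⟨n, h3, h4, rfl⟩ := hq
      exact ⟨m * n, mul_mem h1 h3, mul_mem h2 h4, pr_mul h1 h3⟩
    | inv p _ hp =>
      obtain ⟨m, h1, h2, rfl⟩ := hp
      exact ⟨m⁻¹, inv_mem h1, inv_mem h2, pr_inv h1⟩
    | mem p hp =>
      rw [← image_one hD hs ha] at hp
      obtain ⟨m, hm, rfl⟩ := hp
      exact ⟨m, mem_Hd hm.1, Subgroup.subset_closure ⟨hm.1.1, hm.1.2.2, hm.2.2.2⟩, rfl⟩
  obtain ⟨m, hm, hm', e⟩ := key _ hcent
  have e1 : pr D w (m⁻¹ * h) = 1 := by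
    rw [pr_mul (inv_mem hm) hh, pr_inv hm, e, inv_mul_cancel]
  have hwm : w ∈ Subgroup.closure {x : G | x ∈ D ∧ Commute w x ∧ Commute a x} :=
    Subgroup.subset_closure ⟨hw, Commute.refl w, ha.2.2.symm⟩
  rcases pr_eq_one hD hprim h24 hw (mul_mem (inv_mem hm) hh) e1 with e' | e'
  · rw [inv_mul_eq_one] at e'
    exact e' ▸ hm'
  · rw [inv_mul_eq_iff_eq_mul] at e'
    rw [e']
    exact mul_mem hm' hwm

/-- The local subgroups form a covering system. -/
theorem loc_sys : CoverTwo.Sys D (loc D) where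
  le a _ k hk := loc_commute hk
  conj g a _ k hk := Cover.conj_loc hD g hk
  key w hw a ha h hh hc := by
    have := loc_inf hD hprim h24 hw ha hh hc
    refine (Subgroup.closure_le _).2 (fun x hx => ?_) this
    exact mem_loc hx.1 hx.2.2
  pair v hv x hx y hy cx cy := mul_mem (mem_loc hx cx) (mem_loc hy cy)
  lift w hw a ha b hb :=
    RankThree.linked_inner hD hprim (exists_comm hD hprim h24)
      (Primitive.cores_central hD hprim (exists_comm hD hprim h24)).1 hw ha.1 hb.1 ha.2.2 hb.2.2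
      ha.2.1 hb.2.1

/-- The centraliser of a member is its local subgroup. -/
theorem centralizer_eq {a : G} (ha : a ∈ D) :
    Subgroup.centralizer ({a} : Set G) = Hd D a := by
  rw [← loc_eq hD hprim h24 ha]
  refine le_antisymm (fun g hg => ?_) fun x hx => Subgroup.mem_centralizer_iff.2 (by
    rintro _ rfl; exact (loc_commute hx).eq)
  have hga : Commute a g := Subgroup.mem_centralizer_iff.1 hg a rfl
  rcases CoverTwo.centralizer_cases hD hprim (exists_comm hD hprim h24) (loc_sys hD hprim h24)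
    (Graph.hyp hD hprim h24) ha hga with h | h
  · exact h
  · have := mul_mem h (mem_loc ha (Commute.refl a))
    rwa [mul_assoc, Classes.sq hD ha, mul_one] at this

theorem base : Base D :=
  Facts.base_of_cent hD hprim h24 fun _ ha => centralizer_eq hD hprim h24 ha

theorem card_loc {a : G} (ha : a ∈ D) : Nat.card ↥(Hd D a) = 8178940946586009600 := by
  rw [Subgroup.card_eq_card_quotient_mul_card_subgroup (Subgroup.center ↥(Hd D a)),
    show Nat.card (↥(Hd D a) ⧸ Subgroup.center ↥(Hd D a)) = _ from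
      GenA.Tower.M23.card_group (Facts.grp hD hprim h24 ha) (Facts.prim hD hprim h24 ha)
        (m23 hD hprim h24 ha),
    center_eq hD hprim h24 ha, Nat.card_congr (Subgroup.subgroupOfEquivOfLe
      (Subgroup.zpowers_le.2 (mem_Hd_self hD hprim h24 ha))).toEquiv, Nat.card_zpowers,
    hD.1.1 a ha]

theorem card_group :
    Nat.card G = 2 ^ 22 * 3 ^ 16 * 5 ^ 2 * 7 ^ 3 * 11 * 13 * 17 * 23 * 29 := by
  obtain ⟨a, ha, -⟩ := hprim.2.1
  rw [GenA.Tower.card_of_centralizer hD hprim.1 ha, centralizer_eq hD hprim h24 ha,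
    Graph.ncard_class hD hprim h24, card_loc hD hprim h24 ha]
  norm_num

theorem width : Cfsg.commutingWidth D = 24 := by
  classical
  have hbound : ∀ a ∈ D, ∀ E : Set (Sd D a), E ⊆ Dq D a →
      (∀ x ∈ E, ∀ y ∈ E, Commute x y) → E.ncard ≤ 23 := by
    intro a ha E hE hc
    have := GenA.Tower.M23.width (Facts.grp hD hprim h24 ha) (Facts.prim hD hprim h24 ha)
      (m23 hD hprim h24 ha)
    rw [← this]
    refine le_csSup ⟨Nat.card (Sd D a), ?_⟩ ⟨E, hE, Set.toFinite _, hc, rfl⟩
    rintro n ⟨E', -, -, -, rfl⟩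
    exact (Set.ncard_le_ncard (Set.subset_univ E') (Set.toFinite _)).trans
      (Set.ncard_univ _).le
  refine IsGreatest.csSup_eq ⟨?_, ?_⟩
  · obtain ⟨a, ha, -⟩ := hprim.2.1
    have hw := GenA.Tower.M23.width (Facts.grp hD hprim h24 ha) (Facts.prim hD hprim h24 ha)
      (m23 hD hprim h24 ha)
    have hmem : 23 ∈ {n : ℕ | ∃ E : Set (Sd D a), E ⊆ Dq D a ∧ E.Finite ∧
        (∀ x ∈ E, ∀ y ∈ E, Commute x y) ∧ E.ncard = n} := by
      rw [← hw]
      refine Nat.sSup_mem ⟨0, ∅, Set.empty_subset _, Set.finite_empty, by simp, by simp⟩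
        ⟨Nat.card (Sd D a), ?_⟩
      rintro n ⟨E', -, -, -, rfl⟩
      exact (Set.ncard_le_ncard (Set.subset_univ E') (Set.toFinite _)).trans
        (Set.ncard_univ _).le
    obtain ⟨E, hE, -, hc, hcard⟩ := hmem
    set P : Set G := {x | x ∈ nb D a ∧ pr D a x ∈ E}
    have himg : pr D a '' P = E := by
      ext q
      constructor
      · rintro ⟨x, hx, rfl⟩; exact hx.2
      · intro hq
        obtain ⟨x, hx, rfl⟩ : q ∈ pr D a '' nb D a := by rw [image_nb_pr]; exact hE hq
        exact ⟨x, ⟨hx, hq⟩, rfl⟩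
    refine ⟨insert a P, Set.insert_subset ha fun x hx => hx.1.1, Set.toFinite _, ?_, ?_⟩
    · rintro x (rfl | hx) y (rfl | hy)
      exacts [Commute.refl _, hy.1.2.2, hx.1.2.2.symm,
        (pr_comm hD hx.1 hy.1).1 (hc _ hx.2 _ hy.2)]
    · rw [Set.ncard_insert_of_notMem (fun h => h.1.2.1 rfl) (Set.toFinite _),
        ← ncard_pr (sep hD hprim h24 ha) (fun x hx => hx.1), himg, hcard]
  · rintro n ⟨E, hE, -, hc, rfl⟩
    rcases E.eq_empty_or_nonempty with rfl | ⟨a, ha⟩
    · simp
    have haD := hE ha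
    have hsub : E \ {a} ⊆ nb D a := fun x hx => ⟨hE hx.1, hx.2, hc a ha x hx.1⟩
    have h := hbound a haD (pr D a '' (E \ {a}))
      (by rintro _ ⟨x, hx, rfl⟩; exact pr_mem (hsub hx))
      (by
        rintro _ ⟨x, hx, rfl⟩ _ ⟨y, hy, rfl⟩
        exact (pr_comm hD (hsub hx) (hsub hy)).2 (hc x hx.1 y hy.1))
    rw [ncard_pr (sep hD hprim h24 haD) hsub, Set.ncard_sdiff_singleton_of_mem ha] at h
    omega

end Cfsg.Agent.ThreeTransp.M24.Local
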