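import Cfsg.Agent.Lib.ThreeTransp.M23.Involutions
import Cfsg.Agent.Lib.ThreeTransp.M22.Eighteen
import Cfsg.Agent.GenA.Tower.Main23

/-!
In a group of type M(24) every involution centralises a member.
-/

set_option autoImplicit false
set_option linter.unusedSectionVars false

namespace Cfsg.Agent.ThreeTransp.M24

open Cfsg.Agent.ThreeTransp
open Cfsg.Agent.ThreeTransp.Factor (nb Hd mem_Hd Sd Dq Dl Sep Rel Hd_commute)
open Cfsg.Agent.GenA.Tower (pr pr_mk pr_mul pr_mem pr_inj pr_comm pr_nb image_nb_pr)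

universe u

variable {G : Type u} [Group G] {D : Set G}

/-- The local facts at every member. -/
structure Base (D : Set G) : Prop where
  sep : ∀ a ∈ D, Sep D a
  nondeg : ∀ a ∈ D, ∀ x ∈ Dl D a, x ∉ Subgroup.center ↥(Hd D a)
  m23 : ∀ a ∈ D, Cfsg.IsOfTypeM23 (Sd D a) (Dq D a)
  prim : ∀ a ∈ D, Cfsg.IsPrimitiveUnderConj (Dq D a)
  cent : ∀ a ∈ D, Subgroup.centralizer ({a} : Set G) = Hd D a

/-- The facts on a group of type M(23) in the form used for its involutions. -/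
theorem base23 {S : Type u} [Group S] [Finite S] {E : Set S}
    (hE : Cfsg.IsThreeTranspositionGroup E) (hp : Cfsg.IsPrimitiveUnderConj E)
    (h : Cfsg.IsOfTypeM23 S E) : M23.Base E :=
  ⟨fun a ha => GenA.Tower.M23.sep hE hp h ha,
    fun a ha => (GenA.Tower.core_at hE hp h.1 (GenA.Tower.M23.hex hE hp h) ha).2.1,
    fun a ha => GenA.Tower.M23.t22 hE hp h ha, fun a ha => GenA.Tower.M23.prim hE hp h ha,
    fun a ha => GenA.Tower.M23.centralizer_eq hE hp h ha⟩

theorem exists_pre {a : G} {X : Sd D a} (hX : X ∈ Dq D a) : ∃ x ∈ nb D a, pr D a x = X := by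
  rwa [← image_nb_pr, Set.mem_image] at hX

variable [Finite G] (hD : Cfsg.IsThreeTranspositionGroup D) (B : Base D)
include hD B

theorem grp {a : G} (ha : a ∈ D) : Cfsg.IsThreeTranspositionGroup (Dq D a) :=
  Factor.grp_Dq hD (B.nondeg a ha)

theorem base_at {a : G} (ha : a ∈ D) : M23.Base (Dq D a) :=
  base23 (grp hD B ha) (B.prim a ha) (B.m23 a ha)

theorem nb_nonempty {a : G} (ha : a ∈ D) : ∃ b, b ∈ nb D a := by
  obtain ⟨X, hX, -⟩ := (B.prim a ha).2.1
  rw [← image_nb_pr] at hX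
  obtain ⟨x, hx, -⟩ := hX
  exact ⟨x, hx⟩


variable (hprim : Cfsg.IsPrimitiveUnderConj D)
include hprim

/-- Every involution centralises a member. -/
theorem exists_fixed {t : G} (ht : t * t = 1) : ∃ e ∈ D, Commute t e := by
  classical
  obtain ⟨a, ha, -⟩ := hprim.2.1
  obtain ⟨b, hbdef⟩ : ∃ b, b = t * a * t⁻¹ := ⟨_, rfl⟩
  by_contra! hcon
  have htt : ∀ x, t * (t * x * t⁻¹) * t⁻¹ = x := fun x => by
    rw [show t * (t * x * t⁻¹) * t⁻¹ = (t * t) * x * (t * t)⁻¹ by group, ht]; group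
  have hbD : b ∈ D := hbdef ▸ hD.2.1 t a ha
  have hne : b ≠ a := fun e => hcon a ha (M22.conj_eq_self_iff.1 (hbdef ▸ e))
  have htb : t * b * t⁻¹ = a := by rw [hbdef, htt]
  have hta : t * a * t⁻¹ = b := hbdef.symm
  by_cases hab : Commute a b
  swap
  · refine hcon _ (Classes.conj_mem hD ha hbD) (M22.conj_eq_self_iff.1 ?_)
    rw [show t * (a * b * a) * t⁻¹ = t * a * t⁻¹ * (t * b * t⁻¹) * (t * a * t⁻¹) by group,
      hta, htb, Basic.braid hD.1 ha hbD hab]
  have hb : b ∈ nb D a := ⟨hbD, hne, hab⟩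
  set T : Set G := nb D a ∩ nb D b with hT
  set W : Subgroup G := Subgroup.closure T with hW
  have hTt : ∀ q ∈ T, t * q * t⁻¹ ∈ T := fun q hq =>
    ⟨htb ▸ Cover.conj_nb hD t hq.2, hta ▸ Cover.conj_nb hD t hq.1⟩
  have hWt : ∀ w ∈ W, t * w * t⁻¹ ∈ W := by
    intro w hw
    induction hw using Subgroup.closure_induction with
    | mem q hq => exact Subgroup.subset_closure (hTt q hq)
    | one => rw [mul_one, mul_inv_cancel]; exact one_mem _
    | mul p q _ _ hp hq =>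
      rw [show t * (p * q) * t⁻¹ = (t * p * t⁻¹) * (t * q * t⁻¹) by group]
      exact mul_mem hp hq
    | inv p _ hp =>
      rw [show t * p⁻¹ * t⁻¹ = (t * p * t⁻¹)⁻¹ by group]
      exact inv_mem hp
  have hWH : ∀ w ∈ W, w ∈ Hd D a := fun w hw =>
    (Subgroup.closure_le _).2 (fun q hq => mem_Hd hq.1) hw
  have hs := B.sep a ha
  have hgM := grp hD B ha
  have BM := base_at hD B ha
  have hbM : pr D a b ∈ Dq D a := pr_mem hb
  have hpT : ∀ q ∈ T, pr D a q ∈ nb (Dq D a) (pr D a b) := fun q hq => (pr_nb hD hs hb hq.1).2 hq.2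
  have hland : ∀ w ∈ W, pr D a w ∈ Hd (Dq D a) (pr D a b) := by
    intro w hw
    induction hw using Subgroup.closure_induction with
    | mem q hq => exact mem_Hd (hpT q hq)
    | one => rw [pr_mk (one_mem _)]; exact one_mem _
    | mul p q hpW hqW hp hq => rw [pr_mul (hWH p hpW) (hWH q hqW)]; exact mul_mem hp hq
    | inv p hpW hp => rw [GenA.Tower.pr_inv (hWH p hpW)]; exact inv_mem hp
  let ψ₀ : ↥W →* ↥(Hd (Dq D a) (pr D a b)) :=
    { toFun := fun w => ⟨pr D a (w : G), hland _ w.2⟩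
      map_one' := Subtype.ext (by
        show pr D a (1 : G) = 1
        rw [pr_mk (one_mem _)]; rfl)
      map_mul' := fun p q => Subtype.ext (pr_mul (hWH _ p.2) (hWH _ q.2)) }
  let ψ : ↥W →* Sd (Dq D a) (pr D a b) := (QuotientGroup.mk' _).comp ψ₀
  have hψ : ∀ (q : G) (hq : q ∈ T), ψ ⟨q, Subgroup.subset_closure hq⟩ =
      pr (Dq D a) (pr D a b) (pr D a q) := fun q hq =>
    (pr_mk (D := Dq D a) (mem_Hd (hpT q hq))).symm
  have hsurj : Function.Surjective ψ := by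
    rw [← MonoidHom.range_eq_top, eq_top_iff, ← Factor.closure_Dq, Subgroup.closure_le]
    intro Y hY
    obtain ⟨Q, hQ, rfl⟩ := exists_pre hY
    obtain ⟨q, hq, rfl⟩ := exists_pre hQ.1
    exact ⟨⟨q, Subgroup.subset_closure ⟨hq, (pr_nb hD hs hb hq).1 hQ⟩⟩,
      hψ q ⟨hq, (pr_nb hD hs hb hq).1 hQ⟩⟩
  have h22 := BM.m22 _ hbM
  have hinj : ∀ p ∈ T, ∀ q ∈ T,
      pr (Dq D a) (pr D a b) (pr D a p) = pr (Dq D a) (pr D a b) (pr D a q) → p = q :=
    fun p hp q hq h => pr_inj hs hp.1 hq.1 (pr_inj (BM.sep _ hbM) (hpT p hp) (hpT q hq) h)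
  have hker : ψ.ker = Subgroup.center ↥W := by
    refine le_antisymm (fun w hw => ?_) (fun w hw => ?_)
    · have hq : ∀ q : ↥W, (q : G) ∈ T → Commute w q := by
        intro q hq
        have hc : Commute (ψ₀ w) (ψ₀ q) :=
          (Subgroup.mem_center_iff.1 ((QuotientGroup.eq_one_iff _).1 hw) _).symm
        have hc' : pr D a ((w : G) * q) = pr D a ((q : G) * w) := by
          rw [pr_mul (hWH _ w.2) (hWH _ q.2), pr_mul (hWH _ q.2) (hWH _ w.2)]
          exact congrArg Subtype.val hc.eq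
        have hq' : (w : G) * q * (w : G)⁻¹ ∈ nb D a := by
          have := Cover.conj_nb hD (w : G) hq.1
          rwa [M22.conj_eq_self_iff.2 (Hd_commute (hWH _ w.2)).symm] at this
        refine Subtype.ext ?_
        have := pr_inj hs hq' hq.1 (by
          rw [pr_mul (mul_mem (hWH _ w.2) (hWH _ q.2)) (inv_mem (hWH _ w.2)), hc',
            ← pr_mul (mul_mem (hWH _ q.2) (hWH _ w.2)) (inv_mem (hWH _ w.2)), mul_inv_cancel_right])
        exact mul_inv_eq_iff_eq_mul.1 this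
      rw [Subgroup.mem_center_iff]
      intro g
      have hall : Subgroup.closure ((Subtype.val : ↥W → G) ⁻¹' T) = ⊤ :=
        Subgroup.closure_closure_coe_preimage
      have hg : g ∈ Subgroup.closure ((Subtype.val : ↥W → G) ⁻¹' T) := hall ▸ Subgroup.mem_top g
      induction hg using Subgroup.closure_induction with
      | mem q hq' => exact (hq q hq').eq.symm
      | one => rw [one_mul, mul_one]
      | mul p q _ _ hp hq' => rw [mul_assoc, hq', ← mul_assoc, hp, mul_assoc]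
      | inv p _ hp => exact (Commute.inv_left (show Commute p w from hp)).eq
    · rw [MonoidHom.mem_ker, ← Subgroup.mem_bot, ← h22.1, Subgroup.mem_center_iff]
      intro Y
      obtain ⟨y, rfl⟩ := hsurj Y
      rw [← map_mul, ← map_mul, Subgroup.mem_center_iff.1 hw y]
  let τ : ↥W →* ↥W :=
    { toFun := fun w => ⟨t * (w : G) * t⁻¹, hWt _ w.2⟩
      map_one' := Subtype.ext (by simp)
      map_mul' := fun p q => Subtype.ext (by simp only [Subgroup.coe_mul]; group) }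
  have hτ2 : ∀ w, τ (τ w) = w := fun w => Subtype.ext (htt _)
  have hle : ψ.ker ≤ (ψ.comp τ).ker := by
    intro w hw
    show τ w ∈ ψ.ker
    rw [hker, Subgroup.mem_center_iff] at hw ⊢
    intro g
    have e := congrArg τ (hw (τ g))
    rwa [map_mul, map_mul, hτ2] at e
  obtain ⟨f, hf⟩ : ∃ f : Sd (Dq D a) (pr D a b) →* Sd (Dq D a) (pr D a b),
      ∀ w, f (ψ w) = ψ (τ w) :=
    ⟨ψ.liftOfSurjective hsurj ⟨ψ.comp τ, hle⟩,
      fun w => MonoidHom.liftOfRightInverse_comp_apply ψ _ _ _ w⟩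
  have hf2 : ∀ X, f (f X) = X := fun X => by
    obtain ⟨w, rfl⟩ := hsurj X
    rw [hf, hf, hτ2]
  obtain ⟨Y, hY, hfY⟩ := M22.exists_fixed_of_aut (M23.grp hgM BM hbM) (BM.prim _ hbM) h22
    { f with invFun := f, left_inv := hf2, right_inv := hf2 } hf2 (by
      intro Y hY
      obtain ⟨Q, hQ, rfl⟩ := exists_pre hY
      obtain ⟨q, hq, rfl⟩ := exists_pre hQ.1
      have hqT : q ∈ T := ⟨hq, (pr_nb hD hs hb hq).1 hQ⟩
      show f _ ∈ _
      rw [← hψ q hqT, hf]
      show ψ ⟨t * q * t⁻¹, Subgroup.subset_closure (hTt q hqT)⟩ ∈ _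
      rw [hψ _ (hTt q hqT)]
      exact pr_mem (hpT _ (hTt q hqT)))
  obtain ⟨Q, hQ, rfl⟩ := exists_pre hY
  obtain ⟨q, hq, rfl⟩ := exists_pre hQ.1
  have hqT : q ∈ T := ⟨hq, (pr_nb hD hs hb hq).1 hQ⟩
  change f _ = _ at hfY
  rw [← hψ q hqT, hf] at hfY
  change ψ ⟨t * q * t⁻¹, Subgroup.subset_closure (hTt q hqT)⟩ = _ at hfY
  rw [hψ q hqT, hψ _ (hTt q hqT)] at hfY
  exact hcon q hq.1 (M22.conj_eq_self_iff.1 (hinj _ (hTt q hqT) q hqT hfY))

end Cfsg.Agent.ThreeTransp.M24
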