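import Cfsg.Agent.Lib.ThreeTransp.M24.Fixed

/-!
The local facts of a group of type M(24) that do not need a count.
-/

set_option autoImplicit false
set_option linter.unusedSectionVars false

namespace Cfsg.Agent.ThreeTransp.M24.Facts

open Cfsg.Agent.ThreeTransp
open Cfsg.Agent.ThreeTransp.Factor (nb Hd mem_Hd Sd Dq Dl Sep Rel Hd_commute grp_Dq)
open Cfsg.Agent.GenA.Tower (pr pr_mk pr_mul pr_inv pr_mem pr_inj pr_comm pr_nb Inner image_nb_pr)

universe u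

/-- The inner facts of a group of type M(23), from transitivity alone. -/
theorem inner23 {S : Type u} [Group S] [Finite S] {E : Set S}
    (hE : Cfsg.IsThreeTranspositionGroup E)
    (htr : ∀ a ∈ E, ∀ b ∈ E, ∃ g : S, g * a * g⁻¹ = b) (h : Cfsg.IsOfTypeM23 S E) : Inner E := by
  have t22 : ∀ a ∈ E, Cfsg.IsOfTypeM22 (Sd E a) (Dq E a) := fun a ha =>
    GenA.Tower.local22 hE htr h ha
  have hex : ∀ a ∈ E, Cfsg.pCore 2 (Sd E a) = ⊥ ∧ Nontrivial (Sd E a) := fun a ha =>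
    GenA.Tower.hex22 (GenA.Tower.grp_strip hE _) (Factor.strip_one (t22 a ha))
  have core : ∀ a ∈ E, (∀ x ∈ Dl E a, x ∉ Subgroup.center ↥(Hd E a)) ∧ Sep E a := fun a ha =>
    (Factor.core hE htr h.1 ha (hex a ha).2 (hex a ha).1).2
  have grp : ∀ a ∈ E, Cfsg.IsThreeTranspositionGroup (Dq E a) := fun a ha =>
    grp_Dq hE (core a ha).1
  have inn : ∀ a ∈ E, Inner (Dq E a) := fun a ha => GenA.Tower.inner22 (grp a ha) (t22 a ha)
  refine ⟨?_, ?_, ?_⟩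
  · intro x hx p hp q hq
    obtain ⟨g, hg⟩ := Factor.transitive_of_M22 (grp x hx) (t22 x hx) _ (pr_mem hp) _ (pr_mem hq)
    obtain ⟨⟨k, hk⟩, rfl⟩ := QuotientGroup.mk_surjective g
    rw [← pr_mk hk] at hg
    have hkx : k * x * k⁻¹ = x := RankThree.conj_self_of_commute (Hd_commute hk)
    refine ⟨k, hkx, ?_⟩
    have hn : k * p * k⁻¹ ∈ nb E x := GenA.Tower.conj_fix_nb hE hkx hp
    refine pr_inj (core x hx).2 hn hq ?_
    rw [pr_mul (mul_mem hk (mem_Hd hp)) (inv_mem hk), pr_mul hk (mem_Hd hp), pr_inv hk]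
    exact hg
  · intro x hx y hy hxy
    obtain ⟨-, d, hd, -⟩ := id h
    obtain ⟨-, u, hu, -⟩ := id (t22 x hx)
    obtain ⟨w, hw, -⟩ := exists_pre hu
    by_cases hwy : w ∈ nb E y
    · have hx' : x ∈ nb E w := Cover.mem_nb_symm hx hw
      have hy' : y ∈ nb E w := Cover.mem_nb_symm hy hwy
      obtain ⟨t, ht, htn⟩ := (inn w hw.1).sep _ (pr_mem hx') _ (pr_mem hy')
        fun e => hxy ((pr_comm hE hx' hy').1 e)
      obtain ⟨t, ht', rfl⟩ := exists_pre ht.1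
      exact ⟨t, (pr_nb hE (core w hw.1).2 hx' ht').1 ht,
        fun e => htn ((pr_nb hE (core w hw.1).2 hy' ht').2 e)⟩
    · exact ⟨w, hw, hwy⟩
  · obtain ⟨-, d, hd, -⟩ := id h
    obtain ⟨-, u, hu, v, hv, huv, -⟩ := id (t22 d hd)
    obtain ⟨u, hu', rfl⟩ := exists_pre hu
    obtain ⟨v, hv', rfl⟩ := exists_pre hv
    exact ⟨d, hd, u, hu', v, hv', fun e => huv ((pr_comm hE hu' hv').2 e)⟩

variable {G : Type u} [Group G] [Finite G] {D : Set G}
  (hD : Cfsg.IsThreeTranspositionGroup D) (hprim : Cfsg.IsPrimitiveUnderConj D)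
  (h24 : Cfsg.IsOfTypeM24 G D)
include hD hprim h24

theorem m23 {a : G} (ha : a ∈ D) : Cfsg.IsOfTypeM23 (Sd D a) (Dq D a) :=
  GenA.Tower.local23 hD hprim.1 h24 ha

theorem exists_comm : ∃ x ∈ D, ∃ y ∈ D, x ≠ y ∧ Commute x y := by
  obtain ⟨-, d, hd, -⟩ := id h24
  obtain ⟨-, u, hu, -⟩ := id (m23 hD hprim h24 hd)
  obtain ⟨u, hu', -⟩ := exists_pre hu
  exact ⟨d, hd, u, hu'.1, hu'.2.1.symm, hu'.2.2⟩

theorem local_tr {a : G} (ha : a ∈ D) :
    ∀ x ∈ Dq D a, ∀ y ∈ Dq D a, ∃ g : Sd D a, g * x * g⁻¹ = y := by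
  rintro _ ⟨x, hx, rfl⟩ _ ⟨y, hy, rfl⟩
  have hw := exists_comm hD hprim h24
  obtain ⟨g, hg, hgxy⟩ := RankThree.linked_inner hD hprim hw
    (Primitive.cores_central hD hprim hw).1 ha hx.1 hy.1 hx.2.2 hy.2.2 hx.2.1 hy.2.1
  obtain ⟨k, hk, hk'⟩ := Factor.loc_conj hD hg _ hx
  refine ⟨QuotientGroup.mk ⟨k, hk⟩, ?_⟩
  rw [← QuotientGroup.mk_mul, ← QuotientGroup.mk_inv, ← QuotientGroup.mk_mul]
  exact congrArg _ (Subtype.ext (hk'.trans hgxy))

theorem hex : ∀ a ∈ D, Cfsg.pCore 2 (Sd D a) = ⊥ ∧ Nontrivial (Sd D a) := by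
  intro a ha
  have h23 := m23 hD hprim h24 ha
  obtain ⟨-, u, hu, v, hv, huv, -⟩ := id h23
  have htr := local_tr hD hprim h24 ha
  have hne : ∀ x ∈ Dl D a, x ∉ Subgroup.center ↥(Hd D a) := by
    intro x hx hxZ
    refine huv ?_
    obtain ⟨g, hg⟩ := htr _ ⟨x, hx, rfl⟩ u hu
    rw [← hg, (QuotientGroup.eq_one_iff x).2 hxZ, mul_one, mul_inv_cancel]
    exact Commute.one_left _
  exact ⟨(Factor.M23_core (grp_Dq hD hne) htr h23).1,
    ⟨u, v, fun e => huv (e ▸ Commute.refl u)⟩⟩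

theorem sep {a : G} (ha : a ∈ D) : Sep D a :=
  (GenA.Tower.core_at hD hprim h24.1 (hex hD hprim h24) ha).2.2

theorem nondeg {a : G} (ha : a ∈ D) : ∀ x ∈ Dl D a, x ∉ Subgroup.center ↥(Hd D a) :=
  (GenA.Tower.core_at hD hprim h24.1 (hex hD hprim h24) ha).2.1

theorem grp {a : G} (ha : a ∈ D) : Cfsg.IsThreeTranspositionGroup (Dq D a) :=
  grp_Dq hD (nondeg hD hprim h24 ha)

theorem inner : ∀ a ∈ D, Inner (Dq D a) := fun a ha =>
  inner23 (grp hD hprim h24 ha) (local_tr hD hprim h24 ha) (m23 hD hprim h24 ha)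

theorem prim {a : G} (ha : a ∈ D) : Cfsg.IsPrimitiveUnderConj (Dq D a) :=
  GenA.Tower.local_prim hD hprim h24.1 (hex hD hprim h24) (inner hD hprim h24) ha

/-- Everything but the centralisers. -/
theorem base_of_cent (hc : ∀ a ∈ D, Subgroup.centralizer ({a} : Set G) = Hd D a) : Base D :=
  ⟨fun _ ha => sep hD hprim h24 ha, fun _ ha => nondeg hD hprim h24 ha,
    fun _ ha => m23 hD hprim h24 ha, fun _ ha => prim hD hprim h24 ha, hc⟩

end Cfsg.Agent.ThreeTransp.M24.Facts
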