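import Cfsg.Agent.Lib.ThreeTransp.M24.Facts
import Cfsg.Agent.GenA.Tower.Main23
import Cfsg.Agent.Lib.ThreeTransp.CoverTwo

/-!
The commuting graph of a group of type M(24): 306936 members, any two non-commuting ones with 3240
common neighbours.
-/

set_option autoImplicit false
set_option linter.unusedSectionVars false

namespace Cfsg.Agent.ThreeTransp.M24.Graph

open Cfsg.Agent.ThreeTransp
open Cfsg.Agent.ThreeTransp.Factor (nb Hd Sd Dl Dq Sep mem_Hd)
open Cfsg.Agent.ThreeTransp.Cover (mem_nb_symm conj_nb)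
open Cfsg.Agent.GenA.Tower (pr pr_mem pr_inj pr_comm pr_nb image_nb_pr ncard_pr image_one image_two
  image_three far)
open Cfsg.Agent.ThreeTransp.M24.Facts (sep grp prim m23 exists_comm)

universe u

/-- The only possible number of common neighbours. -/
theorem mu_eq {s : ℕ} (h0 : 0 < s) (h2 : s ≤ 3240) (hd : s ∣ 891855360) {j : ℤ}
    (hj : ((3510 : ℤ) - s) ^ 2 + 4 * ((31671 : ℤ) - s) = j ^ 2) : s = 3240 := by
  let T : ℕ → ℕ := fun u => (112640 / u - u) / 2
  have key : (List.range 256).all (fun u => (T u == 272) || !(u * (u + 2 * T u) == 112640) ||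
      Nat.ble (T u) 271 || Nat.ble 3512 (T u) || !(891855360 % (3512 - T u) == 0)) = true := by
    decide +kernel
  obtain ⟨t, ht⟩ : ∃ t : ℕ, t = 3512 - s := ⟨_, rfl⟩
  obtain ⟨J, hJ⟩ : ∃ J : ℕ, J = j.natAbs := ⟨_, rfl⟩
  have hJt : J * J = t * t + 112640 := by
    have e : (J : ℤ) * J = j ^ 2 := by rw [hJ, Int.natAbs_mul_self', pow_two]
    have e' : (t : ℤ) = 3512 - s := by omega
    have : ((J * J : ℕ) : ℤ) = ((t * t + 112640 : ℕ) : ℤ) := by
      push_cast
      rw [e, ← hj, e']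
      ring
    exact_mod_cast this
  have htJ : t < J := by
    by_contra hle
    push Not at hle
    have := Nat.mul_le_mul hle hle
    omega
  obtain ⟨u, rfl⟩ : ∃ u, J = t + u := ⟨J - t, by omega⟩
  have he : u * (u + 2 * t) = 112640 := by
    have : (t + u) * (t + u) = t * t + u * (u + 2 * t) := by ring
    omega
  have hu : u < 256 := by
    by_contra hge
    push Not at hge
    have := Nat.mul_le_mul hge (show 800 ≤ u + 2 * t by omega)
    omega
  have hu0 : 0 < u := by
    rcases Nat.eq_zero_or_pos u with rfl | h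
    · simp at he
    · exact h
  have hdiv : 112640 / u = u + 2 * t := by rw [← he, Nat.mul_div_cancel_left _ hu0]
  have ht' : (112640 / u - u) / 2 = t := by omega
  have hT : T u = t := ht'
  have hk := List.all_eq_true.1 key u (List.mem_range.2 hu)
  simp only [hT, Bool.or_eq_true, Bool.not_eq_true', beq_iff_eq, beq_eq_false_iff_ne, ne_eq,
    Nat.ble_eq] at hk
  have hd' : 891855360 % (3512 - t) = 0 :=
    Nat.mod_eq_zero_of_dvd (by rw [show 3512 - t = s by omega]; exact hd)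
  rcases hk with (((hk | hk) | hk) | hk) | hk
  · omega
  · exact absurd he hk
  · omega
  · omega
  · exact absurd hd' hk

variable {G : Type u} [Group G] [Finite G] {D : Set G}
  (hD : Cfsg.IsThreeTranspositionGroup D)
  (hprim : Cfsg.IsPrimitiveUnderConj D) (h24 : Cfsg.IsOfTypeM24 G D)
include hD hprim h24

theorem ncard_nb {a : G} (ha : a ∈ D) : (nb D a).ncard = 31671 := by
  rw [← ncard_pr (sep hD hprim h24 ha) (subset_refl _), image_nb_pr,
    GenA.Tower.M23.ncard_class (Facts.grp hD hprim h24 ha) (prim hD hprim h24 ha) (m23 hD hprim h24 ha)]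

theorem ncard_one {a x : G} (ha : a ∈ D) (hx : x ∈ nb D a) :
    (nb D a ∩ nb D x).ncard = 3510 := by
  have hs := sep hD hprim h24 ha
  rw [← ncard_pr hs Set.inter_subset_left, image_one hD hs hx,
    GenA.Tower.M23.ncard_nb (Facts.grp hD hprim h24 ha) (prim hD hprim h24 ha) (m23 hD hprim h24 ha)
      (pr_mem hx)]

theorem ncard_adj {a x z : G} (ha : a ∈ D) (hx : x ∈ nb D a) (hz : z ∈ nb D a) (hne : x ≠ z)
    (hc : Commute x z) : (nb D a ∩ nb D x ∩ nb D z).ncard = 693 := by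
  have hs := sep hD hprim h24 ha
  rw [← ncard_pr hs (Set.inter_subset_left.trans Set.inter_subset_left), image_two hD hs hx hz,
    GenA.Tower.M23.ncard_one (Facts.grp hD hprim h24 ha) (prim hD hprim h24 ha) (m23 hD hprim h24 ha)
      (pr_mem hx) ((pr_nb hD hs hx hz).2 ⟨hz.1, hne.symm, hc⟩)]

theorem ncard_cross {a x z : G} (ha : a ∈ D) (hx : x ∈ nb D a) (hz : z ∈ nb D a)
    (hc : ¬ Commute x z) : (nb D a ∩ nb D x ∩ nb D z).ncard = 351 := by
  have hs := sep hD hprim h24 ha
  rw [← ncard_pr hs (Set.inter_subset_left.trans Set.inter_subset_left), image_two hD hs hx hz,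
    GenA.Tower.M23.ncard_inter (Facts.grp hD hprim h24 ha) (prim hD hprim h24 ha) (m23 hD hprim h24 ha)
      (pr_mem hx) (pr_mem hz) fun h => hc ((pr_comm hD hx hz).1 h)]

/-- A non-commuting pair and one of its common neighbours, inside the neighbourhood of `a`. -/
theorem ncard_four {a x z y : G} (ha : a ∈ D) (hx : x ∈ nb D a) (hz : z ∈ nb D a)
    (hc : ¬ Commute x z) (hy : y ∈ nb D a ∩ nb D x ∩ nb D z) :
    (nb D a ∩ nb D x ∩ nb D z ∩ nb D y).ncard = 126 := by
  have hs := sep hD hprim h24 ha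
  rw [← ncard_pr hs ((Set.inter_subset_left.trans Set.inter_subset_left).trans
    Set.inter_subset_left), image_three hD hs hx hz hy.1.1,
    GenA.Tower.M23.inner_degree (Facts.grp hD hprim h24 ha) (prim hD hprim h24 ha)
      (m23 hD hprim h24 ha) (pr_mem hx) (pr_mem hz) (fun h => hc ((pr_comm hD hx hz).1 h))
      ⟨(pr_nb hD hs hx hy.1.1).2 hy.1.2, (pr_nb hD hs hz hy.1.1).2 hy.2⟩]

theorem moments {y c : G} (hy : y ∈ D) (hc : c ∈ D) (hyc : ¬ Commute y c) :
    ∃ N : Finset G, (∀ z, z ∈ N ↔ z ∈ nb D y ∧ z ∉ nb D c) ∧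
      N.card + (nb D y ∩ nb D c).ncard = 31671 ∧
      ∑ z ∈ N, ((nb D y ∩ nb D c ∩ nb D z).ncard : ℤ) = 3159 * (nb D y ∩ nb D c).ncard ∧
      ∑ z ∈ N, ((nb D y ∩ nb D c ∩ nb D z).ncard : ℤ) ^ 2 =
        351 * ((nb D y ∩ nb D c).ncard : ℤ) ^ 2 := by
  obtain ⟨N, h1, h2, h3, h4⟩ := GenA.Tower.pair_moments hD hprim (exists_comm hD hprim h24)
    (k := 31671) (l := 3510) (d := 351) (e := 693)
    (fun a ha => ncard_nb hD hprim h24 ha) (fun a ha x hx => ncard_one hD hprim h24 ha hx)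
    (fun a ha x hx z hz => ncard_adj hD hprim h24 ha hx hz)
    (fun a ha x hx z hz => ncard_cross hD hprim h24 ha hx hz) hy hc hyc
  refine ⟨N, h1, h2, ?_, ?_⟩
  · rw [h3]; norm_num
  · rw [h4]; push_cast; ring

theorem far_mul {a c : G} (ha : a ∈ D) (hc : c ∈ D) (hac : ¬ Commute a c) :
    (far D a).ncard * (nb D a ∩ nb D c).ncard = 891855360 := by
  rw [GenA.Tower.far_mul hD hprim (exists_comm hD hprim h24) (k := 31671) (l := 3510)
    (fun a ha => ncard_nb hD hprim h24 ha) (fun a ha x hx => ncard_one hD hprim h24 ha hx)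
    ha hc hac]

/-- Non-commuting members have 3240 common neighbours. -/
theorem ncard_inter {a c : G} (ha : a ∈ D) (hc : c ∈ D) (hac : ¬ Commute a c) :
    (nb D a ∩ nb D c).ncard = 3240 := by
  classical
  have hw := exists_comm hD hprim h24
  have hprod := far_mul hD hprim h24 ha hc hac
  obtain ⟨N, -, hNc, hS1, hS2⟩ := moments hD hprim h24 ha hc hac
  have hcs := sq_sum_le_card_mul_sum_sq (s := N)
    (f := fun z => ((nb D a ∩ nb D c ∩ nb D z).ncard : ℤ))
  rw [hS1, hS2] at hcs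
  haveI : Fintype D := Fintype.ofFinite _
  have key := GenA.Tower.srg hD (n := D.ncard) (k := 31671) (l := 3510)
    (μ := (nb D a ∩ nb D c).ncard)
    (fun a ha => ncard_nb hD hprim h24 ha) (fun a ha x hx => ncard_one hD hprim h24 ha hx)
    (fun a' ha' c' hc' h' => GenA.Tower.pair_const hD hprim hw ha' hc' h' ha hc hac) rfl
  have hn := GenA.Tower.ncard_D hD ha
  rw [ncard_nb hD hprim h24 ha] at hn
  have hpos := (Set.ncard_pos (Set.toFinite _)).2 (GenA.Tower.pair_nonempty hD hprim hw ha hc hac)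
  generalize hs : (nb D a ∩ nb D c).ncard = s at hprod hNc hpos hcs key
  generalize hl : (far D a).ncard = l at hprod hn
  have hN' : (N.card : ℤ) = 31671 - s := by omega
  rw [hN'] at hcs
  have hs0 : (0 : ℤ) < s := by exact_mod_cast hpos
  have h2 : s ≤ 3240 := by
    by_contra hgt
    push Not at hgt
    have hgt' : (3241 : ℤ) ≤ s := by exact_mod_cast hgt
    have h' : 351 * (s : ℤ) ^ 2 * ((31671 - s) - 28431) < 0 :=
      mul_neg_of_pos_of_neg (by positivity) (by linarith)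
    nlinarith [h', hcs]
  have hl0 : 0 < l := Nat.pos_of_ne_zero fun e => by rw [e] at hprod; omega
  obtain ⟨j, hj⟩ := M22.Discr.discr_square _ key (by omega) (by norm_num) (by omega) (by
    rw [hn]
    push_cast
    have : (0 : ℤ) ≤ ((31671 : ℤ) + l) * ((3510 : ℤ) - s) := mul_nonneg (by omega) (by omega)
    intro h0
    nlinarith [this, h0])
  exact mu_eq hpos h2 ⟨l, by rw [← hprod, mul_comm]⟩ (by exact_mod_cast hj)

theorem ncard_far {a : G} (ha : a ∈ D) : (far D a).ncard = 275264 := by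
  obtain ⟨c, hc, hac⟩ := Classes.exists_noncomm hD hprim.1 hprim.2.1 ha
  have h := far_mul hD hprim h24 ha hc hac
  rw [ncard_inter hD hprim h24 ha hc hac] at h
  omega

theorem ncard_class : D.ncard = 306936 := by
  obtain ⟨a, ha, -⟩ := hprim.2.1
  rw [GenA.Tower.ncard_D hD ha, ncard_nb hD hprim h24 ha, ncard_far hD hprim h24 ha]

/-- Every member outside sees exactly 360 of the common neighbours. -/
theorem three_sixty {y c z : G} (hy : y ∈ D) (hc : c ∈ D) (hyc : ¬ Commute y c)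
    (hz : z ∈ nb D y) (hzc : z ∉ nb D c) : (nb D y ∩ nb D c ∩ nb D z).ncard = 360 := by
  obtain ⟨N, hN, hcard, h1, h2⟩ := moments hD hprim h24 hy hc hyc
  rw [ncard_inter hD hprim h24 hy hc hyc] at hcard h1 h2
  have h0 : ∑ q ∈ N, (((nb D y ∩ nb D c ∩ nb D q).ncard : ℤ) - 360) ^ 2 = 0 := by
    simp only [sub_sq, Finset.sum_add_distrib, Finset.sum_sub_distrib, ← Finset.sum_mul,
      ← Finset.mul_sum, Finset.sum_const, nsmul_eq_mul]
    rw [h2, h1]
    have : (N.card : ℤ) = 28431 := by omega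
    rw [this]
    norm_num
  have := (Finset.sum_eq_zero_iff_of_nonneg fun q _ => sq_nonneg _).1 h0 z ((hN z).2 ⟨hz, hzc⟩)
  rw [sq_eq_zero_iff, sub_eq_zero] at this
  exact_mod_cast this

/-- The hypotheses of the covering argument. -/
theorem hyp : CoverTwo.Hyp D where
  two a ha b hb := Set.nonempty_of_ncard_ne_zero
    ((ncard_one hD hprim h24 ha hb).trans_ne (by norm_num : (3510 : ℕ) ≠ 0))
  three a ha b hb c hc := Set.nonempty_of_ncard_ne_zero
    ((ncard_adj hD hprim h24 ha hb hc.1 hc.2.2.1.symm hc.2.2.2).trans_ne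
      (by norm_num : (693 : ℕ) ≠ 0))
  mid a ha b hb w hw w' hw' hne hc := by
    have hww : w' ∈ nb D w := ⟨hw'.1.1, hne.symm, hc⟩
    have h3510 := ncard_one hD hprim h24 hw.1.1 hww
    have hle : ∀ p ∈ D, p ∈ nb D w → p ∈ nb D w' →
        {e | e ∈ nb D w ∩ nb D w' ∧ Commute e p}.ncard ≤ 694 := by
      intro p hpD hp hp'
      have hsub : {e | e ∈ nb D w ∩ nb D w' ∧ Commute e p} ⊆
          insert p (nb D w ∩ nb D w' ∩ nb D p) := by
        rintro e ⟨he, hep⟩
        by_cases h : e = p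
        · exact Or.inl h
        · exact Or.inr ⟨he, he.1.1, h, hep.symm⟩
      have h693 := ncard_adj hD hprim h24 hw.1.1 hww hp hp'.2.1.symm hp'.2.2
      have := Set.ncard_le_ncard hsub (Set.toFinite _)
      have := Set.ncard_insert_le p (nb D w ∩ nb D w' ∩ nb D p)
      omega
    have h1 := hle a ha (mem_nb_symm ha hw.1) (mem_nb_symm ha hw'.1)
    have h2 := hle b hb.1 (mem_nb_symm hb.1 hw.2) (mem_nb_symm hb.1 hw'.2)
    by_contra! hcon
    have hsub : nb D w ∩ nb D w' ⊆ {e | e ∈ nb D w ∩ nb D w' ∧ Commute e a} ∪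
        {e | e ∈ nb D w ∩ nb D w' ∧ Commute e b} := by
      intro e he
      by_cases hea : Commute e a
      · exact Or.inl ⟨he, hea⟩
      · exact Or.inr ⟨he, hcon e he hea⟩
    have h3 := (Set.ncard_le_ncard hsub (Set.toFinite _)).trans (Set.ncard_union_le _ _)
    omega
  join a ha b hb w hw w' hw' hnc := by
    obtain ⟨z, ⟨⟨hza, hzw⟩, hzw'⟩, hzb⟩ := Set.nonempty_of_ncard_ne_zero
      ((ncard_four hD hprim h24 ha (y := b) hw.1 hw'.1 hnc
        ⟨⟨hb, mem_nb_symm hb.1 hw.2⟩, mem_nb_symm hb.1 hw'.2⟩).trans_ne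
          (by norm_num : (126 : ℕ) ≠ 0))
    exact ⟨z, ⟨⟨hza, hzb⟩, hzw⟩, hzw'⟩
  five a ha y hy z hz hay haz hne hyz := by
    obtain ⟨x, ⟨hxy, hxa⟩, hxz⟩ := Set.nonempty_of_ncard_ne_zero
      ((three_sixty hD hprim h24 hy ha (fun h => hay h.symm) ⟨hz, hne, hyz⟩
        (fun h => haz h.2.2)).trans_ne (by norm_num : (360 : ℕ) ≠ 0))
    exact ⟨x, ⟨hxa, hxy⟩, hxz⟩

end Cfsg.Agent.ThreeTransp.M24.Graph
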