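import Cfsg.Agent.Lib.ThreeTransp.M24.Fixed

/-!
The involutions of a group of type M(24), given that the local groups are of type M(23).
-/

set_option autoImplicit false
set_option linter.unusedSectionVars false

namespace Cfsg.Agent.ThreeTransp.M24

open Cfsg.Agent.ThreeTransp
open Cfsg.Agent.ThreeTransp.Factor (nb Hd mem_Hd Sd Dq Dl Sep Rel Hd_commute)
open Cfsg.Agent.GenA.Tower (pr pr_mk pr_mul pr_mem pr_inj pr_comm pr_nb image_nb_pr)
open Cfsg.Agent.ThreeTransp.M22 (IsProd)

universe u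

variable {G : Type u} [Group G] [Finite G] {D : Set G}
variable (hD : Cfsg.IsThreeTranspositionGroup D)
include hD

/-- A product of pairwise commuting members, cancelled against another one. -/
theorem cross_prod {l l' : List G} (hn : l.Nodup) (hn' : l'.Nodup)
    (hm : ∀ x ∈ l ++ l', x ∈ D) (hc : ∀ x ∈ l ++ l', ∀ y ∈ l ++ l', Commute x y)
    (he : l.prod = l'.prod) {k : ℕ} (hrel : Rel k D) (hk : l.length + l'.length ≤ k) :
    l.length = l'.length := by
  classical
  obtain ⟨A, hA⟩ : ∃ A, A = l.filter (fun x => decide (x ∉ l')) := ⟨_, rfl⟩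
  obtain ⟨B, hB⟩ : ∃ B, B = l'.filter (fun x => decide (x ∉ l)) := ⟨_, rfl⟩
  obtain ⟨C, hC⟩ : ∃ C, C = l.filter (fun x => decide (x ∈ l')) := ⟨_, rfl⟩
  have p1 : l.Perm (C ++ A) := by
    subst hA hC
    have h := (List.filter_append_perm (fun x => decide (x ∈ l')) l).symm
    simpa using h
  have p2 : l'.Perm (C ++ B) := by
    subst hB hC
    refine (List.perm_ext_iff_of_nodup hn' ?_).2 fun x => ?_
    · refine List.nodup_append'.2 ⟨hn.filter _, hn'.filter _, fun x h1 h2 => ?_⟩
      simp only [List.mem_filter, decide_eq_true_eq] at h1 h2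
      exact h2.2 h1.1
    · simp only [List.mem_append, List.mem_filter, decide_eq_true_eq]
      tauto
  have hpw : ∀ {m : List G}, m ⊆ l ++ l' → m.Nodup → m.Pairwise Commute := fun {m} hs hnd =>
    List.Pairwise.imp_of_mem (fun ha hb _ => hc _ (hs ha) _ (hs hb)) hnd
  have e1 : l.prod = C.prod * A.prod := by
    rw [p1.prod_eq' (hpw (List.subset_append_left _ _) hn), List.prod_append]
  have e2 : l'.prod = C.prod * B.prod := by
    rw [p2.prod_eq' (hpw (List.subset_append_right _ _) hn'), List.prod_append]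
  rw [e1, e2] at he
  have hAB : A.prod = B.prod := mul_left_cancel he
  have hAl : A ⊆ l ++ l' := fun x hx => by
    subst hA; simp only [List.mem_filter] at hx; exact List.mem_append_left _ hx.1
  have hBl : B ⊆ l ++ l' := fun x hx => by
    subst hB; simp only [List.mem_filter] at hx; exact List.mem_append_right _ hx.1
  have hsq : B.prod * B.prod = 1 := by
    have key : ∀ m : List G, m ⊆ l ++ l' → m.prod * m.prod = 1 := by
      intro m hs
      induction m with
      | nil => simp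
      | cons x m ih =>
        have hxm : Commute x m.prod :=
          Commute.list_prod_right m x fun y hy => hc x (hs (by simp)) y (hs (by simp [hy]))
        rw [List.prod_cons, ← pow_two, hxm.mul_pow, pow_two, pow_two,
          Classes.sq hD (hm x (hs (by simp))), one_mul, ih fun y hy => hs (by simp [hy])]
    exact key B hBl
  by_cases h0 : A ++ B = []
  · obtain ⟨a0, b0⟩ := List.append_eq_nil_iff.1 h0
    rw [p1.length_eq, p2.length_eq, a0, b0]
  exfalso
  have hnd : (A ++ B).Nodup := by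
    subst hA hB
    refine List.nodup_append'.2 ⟨hn.filter _, hn'.filter _, fun x h1 h2 => ?_⟩
    simp only [List.mem_filter, decide_eq_true_eq] at h1 h2
    exact h1.2 h2.1
  have hsub : A ++ B ⊆ l ++ l' := List.append_subset.2 ⟨hAl, hBl⟩
  refine hrel (A ++ B) hnd (List.length_pos_iff.2 h0) ?_ (fun x hx => hm x (hsub hx))
    (fun x hx y hy => hc x (hsub hx) y (hsub hy)) (by rw [List.prod_append, hAB, hsq])
  have l1 := p1.length_eq
  have l2 := p2.length_eq
  simp only [List.length_append] at l1 l2 ⊢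
  omega

/-- A member commuting with a product of at most three commuting members commutes with each. -/
theorem commute_factor {l : List G} (hn : l.Nodup) (hl : l.length ≤ 3) (hm : ∀ x ∈ l, x ∈ D)
    (hc : ∀ x ∈ l, ∀ y ∈ l, Commute x y) {e : G} (he : e ∈ D) (h : Commute e l.prod) :
    ∀ x ∈ l, Commute e x := by
  match l, hn, hl, hm, hc, h with
  | [], _, _, _, _, _ => simp
  | [x], _, _, _, _, h => simpa using h
  | [x, y], hn, _, hm, hc, h =>
    obtain ⟨h1, h2⟩ := Factor.commute_each_two hD (hm x (by simp)) (hm y (by simp)) he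
      (by simpa using hn) (by simpa using h)
    simp [h1, h2]
  | [x, y, z], hn, _, hm, hc, h =>
    simp only [List.nodup_cons, List.mem_cons, List.not_mem_nil, or_false, not_or,
      List.nodup_nil, and_true, not_false_eq_true] at hn
    obtain ⟨h1, h2, h3⟩ := Factor.commute_each_three hD (hm x (by simp)) (hm y (by simp))
      (hm z (by simp)) he hn.1.1 hn.1.2 hn.2 (hc x (by simp) y (by simp))
      (hc x (by simp) z (by simp)) (hc y (by simp) z (by simp)) (by simpa [mul_assoc] using h)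
    simp [h1, h2, h3]
  | _ :: _ :: _ :: _ :: _, _, hl', _, _, _ => simp only [List.length_cons] at hl'; omega

theorem prod_number (h7 : Rel 7 D) {m m' : ℕ} {x : G} (h4 : m ≤ 4) (h4' : m' ≤ 4)
    (h : IsProd D m x) (h' : IsProd D m' x) : m = m' := by
  wlog hle : m ≤ m' generalizing m m'
  · exact (this h4' h4 h' h (le_of_not_ge hle)).symm
  by_contra hne
  obtain ⟨l, hn, hl, hm, hc, rfl⟩ := h
  obtain ⟨l', hn', hl', hm', hc', he⟩ := h'
  have hcross : ∀ p ∈ l', ∀ q ∈ l, Commute p q := fun p hp => by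
    refine commute_factor hD hn (by omega) hm hc (hm' p hp) ?_
    rw [← he]
    exact Commute.list_prod_right l' p fun y hy => hc' p hp y hy
  refine hne ?_
  rw [← hl, ← hl']
  refine cross_prod hD hn hn' ?_ ?_ he.symm h7 (by omega)
  · intro p hp
    rcases List.mem_append.1 hp with hp | hp
    exacts [hm p hp, hm' p hp]
  · intro p hp q hq
    rcases List.mem_append.1 hp with hp | hp <;> rcases List.mem_append.1 hq with hq | hq
    exacts [hc p hp q hq, (hcross q hq p hp).symm, hcross p hp q hq, hc' p hp q hq]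

theorem orderOf_prod (h7 : Rel 7 D) {m : ℕ} {x : G} (h1 : 1 ≤ m) (h4 : m ≤ 4)
    (h : IsProd D m x) : orderOf x = 2 := by
  refine orderOf_eq_prime (by rw [pow_two]; exact h.sq hD) fun e => ?_
  obtain ⟨l, hn, hl, hm, hc, rfl⟩ := h
  exact h7 l hn (by omega) (by omega) hm hc e

variable (B : Base D)
include B

theorem IsProd_lift {a : G} (ha : a ∈ D) {m : ℕ} {X : Sd D a} (h : IsProd (Dq D a) m X) :
    ∃ l : List G, l.Nodup ∧ l.length = m ∧ (∀ x ∈ l, x ∈ nb D a) ∧
      (∀ x ∈ l, ∀ y ∈ l, Commute x y) ∧ l.prod ∈ Hd D a ∧ pr D a l.prod = X ∧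
      IsProd D (m + 1) (a * l.prod) := by
  obtain ⟨L, hn, hl, hm, hc, rfl⟩ := h
  have main : ∀ L : List (Sd D a), (∀ Y ∈ L, Y ∈ Dq D a) → ∃ l : List G,
      (∀ x ∈ l, x ∈ nb D a) ∧ l.map (pr D a) = L ∧ l.prod ∈ Hd D a ∧
        pr D a l.prod = L.prod := by
    intro L hL
    induction L with
    | nil => exact ⟨[], by simp, rfl, by simp [one_mem], by rw [List.prod_nil, List.prod_nil, pr_mk (one_mem _)]; rfl⟩
    | cons Y L ih =>
      obtain ⟨l, h1, h2, h3, h4⟩ := ih fun Z hZ => hL Z (by simp [hZ])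
      obtain ⟨y, hy, rfl⟩ := exists_pre (hL Y (by simp))
      exact ⟨y :: l, by simp [hy]; exact h1, by simp [h2],
        by rw [List.prod_cons]; exact mul_mem (mem_Hd hy) h3,
        by rw [List.prod_cons, List.prod_cons, pr_mul (mem_Hd hy) h3, h4]⟩
  obtain ⟨l, h1, h2, h3, h4⟩ := main L hm
  subst h2
  have hnd := List.Nodup.of_map _ hn
  have hcc : ∀ x ∈ l, ∀ y ∈ l, Commute x y := fun x hx y hy =>
    (pr_comm hD (h1 x hx) (h1 y hy)).1
      (hc _ (List.mem_map_of_mem hx) _ (List.mem_map_of_mem hy))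
  refine ⟨l, hnd, by simpa using hl, h1, hcc, h3, h4, a :: l, ?_, by simpa using hl, ?_, ?_, by simp⟩
  · exact List.nodup_cons.2 ⟨fun h => (h1 a h).2.1 rfl, hnd⟩
  · simp only [List.forall_mem_cons]
    exact ⟨ha, fun x hx => (h1 x hx).1⟩
  · intro p hp q hq
    rcases List.mem_cons.1 hp with hp | hp <;> rcases List.mem_cons.1 hq with hq | hq
    exacts [by rw [hp, hq], by rw [hp]; exact (h1 q hq).2.2, by rw [hq]; exact (h1 p hp).2.2.symm,
      hcc p hp q hq]

variable (hprim : Cfsg.IsPrimitiveUnderConj D) (hZ : Subgroup.center G = ⊥)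
include hprim hZ

theorem mem_Hd_of_commute {a t : G} (ha : a ∈ D) (h : Commute t a) : t ∈ Hd D a := by
  rw [← B.cent a ha, Subgroup.mem_centralizer_iff]
  intro x hx
  rw [Set.mem_singleton_iff.1 hx]
  exact h.eq.symm

/-- A central element of the local group is trivial or the member. -/
theorem centralizes_loc {a z : G} (ha : a ∈ D) (hz : ∀ h ∈ Hd D a, Commute z h) :
    z = 1 ∨ z = a := by
  have hza : Commute z a := hz a (mem_Hd_of_commute hD B hprim hZ ha (Commute.refl a))
  obtain ⟨x, hx⟩ := nb_nonempty hD B ha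
  have hw : ∃ a ∈ D, ∃ b ∈ D, a ≠ b ∧ Commute a b := ⟨a, ha, x, hx.1, hx.2.1.symm, hx.2.2⟩
  have hax : a ∈ nb D x := Cover.mem_nb_symm ha hx
  have hzH : z ∈ Hd D x := mem_Hd_of_commute hD B hprim hZ hx.1 (hz x (mem_Hd hx))
  have hgM := grp hD B hx.1
  have hZc : pr D x z = 1 ∨ pr D x z = pr D x a := by
    refine M23.centralizes_loc hgM (base_at hD B hx.1) (B.prim x hx.1) (B.m23 x hx.1).1
      (pr_mem hax) ?_
    intro h hh
    induction hh using Subgroup.closure_induction with
    | one => exact Commute.one_right _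
    | mul p q _ _ hp hq => exact hp.mul_right hq
    | inv p _ hp => exact hp.inv_right
    | mem Y hY =>
      obtain ⟨y, hy, rfl⟩ := exists_pre hY.1
      have hya := (pr_nb hD (B.sep x hx.1) hax hy).1 hY
      show pr D x z * pr D x y = pr D x y * pr D x z
      rw [← pr_mul hzH (mem_Hd hy), ← pr_mul (mem_Hd hy) hzH, (hz y (mem_Hd hya)).eq]
  have main : ∀ u : G, u ∈ Hd D x → pr D x u = 1 → (∀ h ∈ Hd D a, Commute u h) → u = 1 := by
    intro u hu hu1 hua
    rw [pr_mk hu] at hu1
    have huc := Subgroup.mem_center_iff.1 ((QuotientGroup.eq_one_iff _).1 hu1)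
    obtain ⟨Y, hY, hYc⟩ := Classes.exists_noncomm hgM (B.prim x hx.1).1 (B.prim x hx.1).2.1
      (pr_mem hax)
    obtain ⟨c, hc, rfl⟩ := exists_pre hY
    have hac : ¬ Commute a c := fun h => hYc ((pr_comm hD hax hc).2 h)
    rw [← Subgroup.mem_bot, ← hZ, Subgroup.mem_center_iff]
    intro g
    have hle : Subgroup.closure ({y : G | y ∈ D ∧ Commute a y} ∪ {c}) ≤
        Subgroup.centralizer ({u} : Set G) := by
      rw [Subgroup.closure_le]
      rintro y hy
      rw [SetLike.mem_coe, Subgroup.mem_centralizer_iff]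
      intro v hv
      rw [Set.mem_singleton_iff.1 hv]
      rcases hy with hy | rfl
      · exact (hua y (mem_Hd_of_commute hD B hprim hZ ha hy.2.symm)).eq
      · exact (congrArg Subtype.val (huc ⟨y, mem_Hd hc⟩)).symm
    rw [RankThree.closure_eq_top hD hprim hw ha hc.1 hac] at hle
    exact (Subgroup.mem_centralizer_iff.1 (hle (Subgroup.mem_top g)) _ rfl).symm
  rcases hZc with h | h
  · exact Or.inl (main z hzH h hz)
  · right
    refine (inv_mul_eq_one.1 (main (a⁻¹ * z) (mul_mem (inv_mem (mem_Hd hax)) hzH) ?_ fun g hg =>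
      (Hd_commute hg).inv_left.mul_left (hz g hg))).symm
    rw [pr_mul (inv_mem (mem_Hd hax)) hzH, GenA.Tower.pr_inv (mem_Hd hax), h, inv_mul_cancel]

theorem exists_prod {t : G} (ht : orderOf t = 2) : ∃ m, 1 ≤ m ∧ m ≤ 4 ∧ IsProd D m t := by
  have ht2 := Basic.mul_self_of_orderOf_two ht
  obtain ⟨a, ha, hta⟩ := exists_fixed hD B hprim ht2
  have htH := mem_Hd_of_commute hD B hprim hZ ha hta
  have hker : ∀ z ∈ Hd D a, pr D a z = 1 → z = 1 ∨ z = a := fun z hz h => by
    rw [pr_mk hz] at h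
    exact centralizes_loc hD B hprim hZ ha fun g hg => (congrArg Subtype.val
      (Subgroup.mem_center_iff.1 ((QuotientGroup.eq_one_iff _).1 h) ⟨g, hg⟩)).symm
  have ha1 : IsProd D 1 a := ⟨[a], by simp, rfl, by simp [ha], by simp, by simp⟩
  by_cases hτ : pr D a t = 1
  · rcases hker t htH hτ with h | h
    · rw [h, orderOf_one] at ht
      exact absurd ht (by norm_num)
    · exact ⟨1, le_rfl, by norm_num, h ▸ ha1⟩
  have hτ2 : orderOf (pr D a t) = 2 := by
    refine orderOf_eq_prime ?_ hτ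
    rw [pow_two, ← pr_mul htH htH, ht2, pr_mk (one_mem _)]
    rfl
  obtain ⟨m, h1, h3, hm⟩ := M23.exists_prod (grp hD B ha) (base_at hD B ha) (B.prim a ha)
    (B.m23 a ha).1 (Factor.M23_core (grp hD B ha) (B.prim a ha).1 (B.m23 a ha)).2 hτ2
  obtain ⟨l, hn, hl, hln, hc, hlH, hlp, hP⟩ := IsProd_lift hD B ha hm
  rcases hker (l.prod⁻¹ * t) (mul_mem (inv_mem hlH) htH) (by
    rw [pr_mul (inv_mem hlH) htH, GenA.Tower.pr_inv hlH, hlp, inv_mul_cancel]) with h | h
  · exact ⟨m, h1, by omega, l, hn, hl, fun x hx => (hln x hx).1, hc, inv_mul_eq_one.1 h⟩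
  · refine ⟨m + 1, by omega, by omega, ?_⟩
    rw [inv_mul_eq_iff_eq_mul.1 h, show l.prod * a = a * l.prod from (Hd_commute hlH).eq.symm]
    exact hP

theorem exists_isProd {m : ℕ} (h1 : 1 ≤ m) (h4 : m ≤ 4) : ∃ x, IsProd D m x := by
  obtain ⟨a, ha, -⟩ := hprim.2.1
  by_cases h : m = 1
  · exact ⟨a, [a], by simp, by simp [h], by simp [ha], by simp, by simp⟩
  obtain ⟨X, hX⟩ := M23.exists_isProd (grp hD B ha) (base_at hD B ha) (B.prim a ha)
    (B.m23 a ha).1 (m := m - 1) (by omega) (by omega)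
  obtain ⟨l, -, -, -, -, -, -, hP⟩ := IsProd_lift hD B ha hX
  rw [show m - 1 + 1 = m by omega] at hP
  exact ⟨_, hP⟩

theorem prod_conj (h7 : Rel 7 D) {m : ℕ} {x y : G} (h1 : 1 ≤ m) (h4 : m ≤ 4) (hx : IsProd D m x)
    (hy : IsProd D m y) : IsConj x y := by
  obtain ⟨l, hn, hl, hm, hc, rfl⟩ := hx
  obtain ⟨l', hn', hl', hm', hc', rfl⟩ := hy
  obtain ⟨a, l, rfl⟩ : ∃ a t, l = a :: t := by
    cases l with
    | nil => simp at hl; omega
    | cons a t => exact ⟨a, t, rfl⟩
  obtain ⟨b, l', rfl⟩ : ∃ b t, l' = b :: t := by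
    cases l' with
    | nil => simp at hl'; omega
    | cons a t => exact ⟨a, t, rfl⟩
  obtain ⟨g, hg⟩ := hprim.1 a (hm a (by simp)) b (hm' b (by simp))
  have hb := hm' b (by simp)
  rw [isConj_iff]
  obtain ⟨m, rfl⟩ : ∃ k, m = k + 1 := ⟨m - 1, by omega⟩
  simp only [List.length_cons, Nat.add_right_cancel_iff] at hl hl'
  have hs := B.sep b hb
  have proj : ∀ r : List G, (b :: r).Nodup → (∀ x ∈ b :: r, x ∈ D) →
      (∀ x ∈ b :: r, ∀ y ∈ b :: r, Commute x y) → r.length = m →
        r.prod ∈ Hd D b ∧ IsProd (Dq D b) m (pr D b r.prod) := by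
    intro r hrn hrm hrc hrl
    obtain ⟨hbr, hrn⟩ := List.nodup_cons.1 hrn
    have hnb : ∀ x ∈ r, x ∈ nb D b := fun x hx =>
      ⟨hrm x (by simp [hx]), fun e => hbr (e ▸ hx), hrc b (by simp) x (by simp [hx])⟩
    have main : ∀ r : List G, (∀ x ∈ r, x ∈ nb D b) →
        r.prod ∈ Hd D b ∧ (r.map (pr D b)).prod = pr D b r.prod := by
      intro r hr
      induction r with
      | nil => exact ⟨by simp [one_mem], by rw [List.map_nil, List.prod_nil, List.prod_nil, pr_mk (one_mem _)]; rfl⟩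
      | cons y r ih =>
        obtain ⟨h3, h4⟩ := ih fun z hz => hr z (by simp [hz])
        have hy := mem_Hd (hr y (by simp))
        exact ⟨by rw [List.prod_cons]; exact mul_mem hy h3,
          by rw [List.map_cons, List.prod_cons, List.prod_cons, pr_mul hy h3, h4]⟩
    refine ⟨(main r hnb).1, r.map (pr D b), ?_, by simp [hrl], ?_, ?_, (main r hnb).2⟩
    · exact List.Nodup.map_on (fun x hx y hy h => pr_inj hs (hnb x hx) (hnb y hy) h) hrn
    · intro X hX
      obtain ⟨x, hx, rfl⟩ := List.mem_map.1 hX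
      exact pr_mem (hnb x hx)
    · intro X hX Y hY
      obtain ⟨x, hx, rfl⟩ := List.mem_map.1 hX
      obtain ⟨y, hy, rfl⟩ := List.mem_map.1 hY
      exact (pr_comm hD (hnb x hx) (hnb y hy)).2 (hrc x (by simp [hx]) y (by simp [hy]))
  have hb1 : b ∈ Hd D b := mem_Hd_of_commute hD B hprim hZ hb (Commute.refl b)
  obtain ⟨hQ, hQP⟩ := proj l' hn' hm' hc' hl'
  set f := MulAut.conj g with hf
  have hfa : f a = b := hg
  obtain ⟨hP, hPP⟩ := proj (l.map f) (by rw [← hfa, ← List.map_cons]; exact hn.map f.injective)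
    (by
      rw [← hfa, ← List.map_cons]
      intro x hx
      obtain ⟨y, hy, rfl⟩ := List.mem_map.1 hx
      exact hD.2.1 g y (hm y hy))
    (by
      rw [← hfa, ← List.map_cons]
      intro x hx y hy
      obtain ⟨p, hp, rfl⟩ := List.mem_map.1 hx
      obtain ⟨q, hq, rfl⟩ := List.mem_map.1 hy
      exact (hc p hp q hq).map f.toMonoidHom)
    (by simpa using hl)
  have hgab : g * (a :: l).prod * g⁻¹ = b * (l.map f).prod := by
    show f (a :: l).prod = _
    rw [List.prod_cons, map_mul, map_list_prod, hfa]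
  by_cases hm0 : m = 0
  · subst hm0
    rw [List.length_eq_zero_iff.1 hl] at hgab ⊢
    rw [List.length_eq_zero_iff.1 hl']
    exact ⟨g, by simpa using hgab⟩
  obtain ⟨K, hK⟩ := isConj_iff.1 (M23.prod_conj (grp hD B hb) (base_at hD B hb) (B.prim b hb)
    (B.m23 b hb).1 (by omega) (by omega) hPP hQP)
  obtain ⟨⟨k, hk⟩, rfl⟩ := QuotientGroup.mk_surjective K
  have hkP : k * (l.map f).prod * k⁻¹ ∈ Hd D b := mul_mem (mul_mem hk hP) (inv_mem hk)
  have hcase : k * (l.map f).prod * k⁻¹ = l'.prod ∨ k * (l.map f).prod * k⁻¹ = b * l'.prod := by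
    have h : pr D b ((k * (l.map f).prod * k⁻¹) * l'.prod⁻¹) = 1 := by
      rw [pr_mul hkP (inv_mem hQ), pr_mul (mul_mem hk hP) (inv_mem hk), pr_mul hk hP,
        GenA.Tower.pr_inv hk, GenA.Tower.pr_inv hQ, pr_mk hk, hK, mul_inv_cancel]
    rw [pr_mk (mul_mem hkP (inv_mem hQ))] at h
    rcases centralizes_loc hD B hprim hZ hb fun g hg => (congrArg Subtype.val
      (Subgroup.mem_center_iff.1 ((QuotientGroup.eq_one_iff _).1 h) ⟨g, hg⟩)).symm with h' | h'
    · exact Or.inl (mul_inv_eq_one.1 h')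
    · exact Or.inr (mul_inv_eq_iff_eq_mul.1 h')
  have hkb : k * b * k⁻¹ = b := M22.conj_eq_self_iff.2 (Hd_commute hk).symm
  rcases hcase with h | h
  · refine ⟨k * g, ?_⟩
    calc k * g * (a :: l).prod * (k * g)⁻¹ = k * (g * (a :: l).prod * g⁻¹) * k⁻¹ := by group
      _ = (k * b * k⁻¹) * (k * (l.map f).prod * k⁻¹) := by rw [hgab]; group
      _ = (b :: l').prod := by rw [hkb, h, List.prod_cons]
  · exfalso
    have he : k * (g * (a :: l).prod * g⁻¹) * k⁻¹ = l'.prod := by
      calc k * (g * (a :: l).prod * g⁻¹) * k⁻¹ = (k * b * k⁻¹) * (k * (l.map f).prod * k⁻¹) := by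
            rw [hgab]; group
        _ = l'.prod := by rw [hkb, h, ← mul_assoc, Classes.sq hD hb, one_mul]
    have hx : IsProd D (m + 1) (a :: l).prod := ⟨a :: l, hn, by simp [hl], hm, hc, rfl⟩
    have hy : IsProd D m l'.prod := ⟨l', (List.nodup_cons.1 hn').2, hl',
      fun x hx => hm' x (by simp [hx]), fun x hx y hy => hc' x (by simp [hx]) y (by simp [hy]), rfl⟩
    have := prod_number hD h7 (m := m + 1) (m' := m) h4 (by omega) (he ▸ (hx.conj hD g).conj hD k) hy
    omega

end Cfsg.Agent.ThreeTransp.M24
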