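import Cfsg.Agent.Lib.ThreeTransp.M24.Triple
import Cfsg.Agent.Lib.ThreeTransp.M24.Local
import Cfsg.Agent.Lib.ThreeTransp.M24.Sign
import Cfsg.Agent.Lib.ThreeTransp.M22Iso.Main
import Cfsg.Agent.Lib.ThreeTransp.Fi22Model.Type
import Cfsg.Agent.GenA.Tower.Main23

/-!
In a group of type M(24), the centraliser in the commutator subgroup of the product of two
commuting members: a double cover of Fi22 extended by the outer automorphism.
-/

set_option autoImplicit false
set_option linter.unusedSectionVars false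
set_option linter.style.haveILetI false

noncomputable section

namespace Cfsg.Agent.ThreeTransp.M24.Pair

open Cfsg.Agent.ThreeTransp
open Cfsg.Agent.ThreeTransp.Factor (nb Hd mem_Hd Sd Dq Dl Sep Rel Hd_commute)
open Cfsg.Agent.Components
open Cfsg.Agent.GenA.Tower (pr pr_mk pr_mul pr_inv pr_mem pr_inj pr_comm pr_nb)

universe u

variable {G : Type u} [Group G]

/-- The joint centraliser in the commutator subgroup. -/
abbrev K (a b : G) : Subgroup G := commutator G ⊓ Subgroup.centralizer ({a, b} : Set G)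

/-- The centraliser of the product in the commutator subgroup. -/
abbrev CJ (a b : G) : Subgroup G := commutator G ⊓ Subgroup.centralizer ({a * b} : Set G)

theorem mem_K {a b g : G} : g ∈ K a b ↔ g ∈ commutator G ∧ Commute a g ∧ Commute b g := by
  rw [Subgroup.mem_inf, M23.Pair.mem_K]

theorem mem_CJ {a b g : G} : g ∈ CJ a b ↔ g ∈ commutator G ∧ Commute (a * b) g := by
  rw [Subgroup.mem_inf, M23.Pair.mem_cent]

theorem K_le {a b : G} : K a b ≤ CJ a b := fun g hg =>
  mem_CJ.2 ⟨(mem_K.1 hg).1, (mem_K.1 hg).2.1.mul_left (mem_K.1 hg).2.2⟩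

variable [Finite G] {D : Set G} (hD : Cfsg.IsThreeTranspositionGroup D)
  (hprim : Cfsg.IsPrimitiveUnderConj D) (h24 : Cfsg.IsOfTypeM24 G D)
  {a b : G} (ha : a ∈ D) (hb : b ∈ nb D a)
include hD hprim h24 ha hb

theorem mem_local {g : G} (hg : g ∈ K a b) : g ∈ Hd D a :=
  Local.centralizer_eq hD hprim h24 ha ▸ M23.Pair.mem_cent.2 (mem_K.1 hg).2.1

theorem mem_Hd_a : a ∈ Hd D a := Local.mem_Hd_self hD hprim h24 ha

theorem pr_self : pr D a a = 1 := by
  rw [pr_mk (mem_Hd_a hD hprim h24 ha hb), QuotientGroup.eq_one_iff, Subgroup.mem_center_iff]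
  exact fun k => Subtype.ext (Hd_commute k.2).eq.symm

theorem a_mul_b_mem : a * b ∈ K a b := by
  refine mem_K.2 ⟨(Triple.mem_or hD hprim hb.1 a).resolve_left
    (Sign.not_mem_commutator hD hprim h24 a ha), (Commute.refl a).mul_right hb.2.2,
    hb.2.2.symm.mul_right (Commute.refl b)⟩

theorem pr_mem_cent {g : G} (hg : g ∈ K a b) :
    pr D a g ∈ Hd (Dq D a) (pr D a b) := by
  rw [← GenA.Tower.M23.centralizer_eq (Facts.grp hD hprim h24 ha) (Facts.prim hD hprim h24 ha)
    (Facts.m23 hD hprim h24 ha) (pr_mem hb), M23.Pair.mem_cent]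
  show pr D a b * pr D a g = pr D a g * pr D a b
  have h := mem_local hD hprim h24 ha hb hg
  rw [← pr_mul (mem_Hd hb) h, ← pr_mul h (mem_Hd hb), (mem_K.1 hg).2.2.eq]

/-- The map to the local group of the image of the second member. -/
def toLocal : ↥(K a b) →* ↥(Hd (Dq D a) (pr D a b)) :=
  MonoidHom.mk' (fun g => ⟨pr D a g, pr_mem_cent hD hprim h24 ha hb g.2⟩) fun g h =>
    Subtype.ext (pr_mul (mem_local hD hprim h24 ha hb g.2) (mem_local hD hprim h24 ha hb h.2))

theorem toLocal_injective : Function.Injective (toLocal hD hprim h24 ha hb) := by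
  refine (injective_iff_map_eq_one _).2 fun g hg => Subtype.ext ?_
  rcases Local.pr_eq_one hD hprim h24 ha (mem_local hD hprim h24 ha hb g.2)
    (congrArg Subtype.val hg) with h | h
  · exact h
  · exact absurd (h ▸ (mem_K.1 g.2).1) (Sign.not_mem_commutator hD hprim h24 a ha)

theorem toLocal_surjective : Function.Surjective (toLocal hD hprim h24 ha hb) := by
  rintro ⟨s, hs⟩
  obtain ⟨⟨g, hg⟩, rfl⟩ := QuotientGroup.mk_surjective s
  have hs' : Commute (pr D a b) (pr D a g) := by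
    rw [pr_mk hg]
    exact Factor.Hd_commute hs
  have hga : Commute a g := Hd_commute hg
  have hgb : Commute b g := by
    have hgx : g * b * g⁻¹ ∈ nb D a := by
      have := Cover.conj_nb hD g hb
      rwa [RankThree.conj_self_of_commute hga] at this
    have e := pr_inj (Facts.sep hD hprim h24 ha) hgx hb (by
      rw [pr_mul (mul_mem hg (mem_Hd hb)) (inv_mem hg), pr_mul hg (mem_Hd hb), pr_inv hg, ← hs'.eq,
        mul_inv_cancel_right])
    exact (mul_inv_eq_iff_eq_mul.1 e).symm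
  rcases Triple.mem_or hD hprim ha g with h | h
  · exact ⟨⟨g, mem_K.2 ⟨h, hga, hgb⟩⟩, Subtype.ext (pr_mk hg)⟩
  · refine ⟨⟨g * a, mem_K.2 ⟨h, hga.mul_right (Commute.refl a), hgb.mul_right hb.2.2.symm⟩⟩,
      Subtype.ext ?_⟩
    show pr D a (g * a) = _
    rw [pr_mul hg (mem_Hd_a hD hprim h24 ha hb), pr_self hD hprim h24 ha hb, mul_one, pr_mk hg]

/-- The joint centraliser is the local group of one member seen from the other. -/
def iso : ↥(K a b) ≃* ↥(Hd (Dq D a) (pr D a b)) :=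
  MulEquiv.ofBijective _ ⟨toLocal_injective hD hprim h24 ha hb,
    toLocal_surjective hD hprim h24 ha hb⟩

theorem quotient_iso : Nonempty (↥(K a b) ⧸ Subgroup.center ↥(K a b) ≃* Cfsg.Spor.Fi22) := by
  have hg := Facts.grp hD hprim h24 ha
  have hp := Facts.prim hD hprim h24 ha
  have h23 := Facts.m23 hD hprim h24 ha
  haveI : Finite Fi22Model.Fi := InvChar.Coset.FiUnit.finite_Fi
  obtain ⟨e, -⟩ := M22Iso.exists_iso (GenA.Tower.M23.grp hg hp h23 (pr_mem hb))
    (GenA.Tower.M23.prim hg hp h23 (pr_mem hb)) (GenA.Tower.M23.t22 hg hp h23 (pr_mem hb))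
    Fi22Model.grp Fi22Model.primitive Fi22Model.type22
  obtain ⟨ψ⟩ := Basic.quotient_center_equiv (iso hD hprim h24 ha hb)
  exact ⟨ψ.trans e⟩

theorem quasisimple : Cfsg.IsQuasisimple ↥(K a b) := by
  obtain ⟨φ⟩ := quotient_iso hD hprim h24 ha hb
  haveI := InvChar.Coset.Fi22B.simple_and_card.1
  refine ⟨?_, φ.isSimpleGroup⟩
  haveI : Group.IsPerfect ↥(Hd (Dq D a) (pr D a b)) :=
    ⟨GenA.Tower.M23.perfect_Hd (Facts.grp hD hprim h24 ha) (Facts.prim hD hprim h24 ha)
      (Facts.m23 hD hprim h24 ha) (pr_mem hb)⟩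
  exact Group.IsPerfect.ofSurjective (f := (iso hD hprim h24 ha hb).symm.toMonoidHom)
    (iso hD hprim h24 ha hb).symm.surjective

theorem center_map :
    (Subgroup.center ↥(K a b)).map (K a b).subtype = Subgroup.zpowers (a * b) := by
  have hab := a_mul_b_mem hD hprim h24 ha hb
  have hg := Facts.grp hD hprim h24 ha
  refine le_antisymm ?_ (Subgroup.zpowers_le.2 ⟨⟨a * b, hab⟩, ?_, rfl⟩)
  · rintro _ ⟨z, hz, rfl⟩
    set e := iso hD hprim h24 ha hb
    have hez : e z ∈ Subgroup.center _ := by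
      rw [Subgroup.mem_center_iff]
      intro k
      obtain ⟨k, rfl⟩ := e.surjective k
      rw [← map_mul, ← map_mul, Subgroup.mem_center_iff.1 hz k]
    rw [GenA.Tower.M23.center_eq hg (Facts.prim hD hprim h24 ha)
      (Facts.m23 hD hprim h24 ha) (pr_mem hb), Subgroup.mem_subgroupOf] at hez
    rcases M23.Pair.mem_zpowers_cases hg (pr_mem hb) hez with h | h
    · rw [show z = 1 from e.injective (Subtype.ext (by rw [map_one]; exact h)), map_one]
      exact one_mem _
    · have h' : pr D a (a * b) = pr D a b := by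
        rw [pr_mul (mem_Hd_a hD hprim h24 ha hb) (mem_Hd hb), pr_self hD hprim h24 ha hb, one_mul]
      rw [show z = ⟨a * b, hab⟩ from e.injective (Subtype.ext (h.trans h'.symm))]
      exact Subgroup.mem_zpowers _
  · rw [SetLike.mem_coe, Subgroup.mem_center_iff]
    intro k
    exact Subtype.ext ((mem_K.1 k.2).2.1.mul_left (mem_K.1 k.2).2.2).eq.symm

theorem cases' {x : G} (hx : x ∈ CJ a b) :
    (x * a * x⁻¹ = a ∧ x * b * x⁻¹ = b) ∨ (x * a * x⁻¹ = b ∧ x * b * x⁻¹ = a) :=
  M23.Pair.cent_cases hD ((Factor.M24_rel hD hprim h24).mono (by norm_num)) ha hb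
    (M23.Pair.mem_cent.2 (mem_CJ.1 hx).2)

theorem mem_K_of_fix {x : G} (hx : x ∈ CJ a b) (hxa : x * a * x⁻¹ = a) (hxb : x * b * x⁻¹ = b) :
    x ∈ K a b :=
  mem_K.2 ⟨(mem_CJ.1 hx).1, (mul_inv_eq_iff_eq_mul.1 hxa).symm, (mul_inv_eq_iff_eq_mul.1 hxb).symm⟩

theorem exists_swap : ∃ g ∈ CJ a b, g * a * g⁻¹ = b ∧ g * b * g⁻¹ = a := by
  obtain ⟨g, hga, hgb⟩ := M23.Pair.exists_swap hD ha hb hprim
  have hc : ∀ g : G, g ∈ commutator G → g * a * g⁻¹ = b → g * b * g⁻¹ = a → g ∈ CJ a b := by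
    intro g h e1 e2
    refine mem_CJ.2 ⟨h, (mul_inv_eq_iff_eq_mul.1 ?_).symm⟩
    rw [show g * (a * b) * g⁻¹ = g * a * g⁻¹ * (g * b * g⁻¹) by group, e1, e2, hb.2.2.eq]
  rcases Triple.mem_or hD hprim ha g with h | h
  · exact ⟨g, hc g h hga hgb, hga, hgb⟩
  · have cj : ∀ y, Commute a y → g * a * y * (g * a)⁻¹ = g * y * g⁻¹ := fun y hy => by
      rw [show g * a * y * (g * a)⁻¹ = g * (a * y * a⁻¹) * g⁻¹ by group,
        mul_inv_eq_iff_eq_mul.2 hy.eq]
    have e1 := (cj a (Commute.refl a)).trans hga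
    have e2 := (cj b hb.2.2).trans hgb
    exact ⟨g * a, hc _ h e1 e2, e1, e2⟩

theorem index_two : ((K a b).subgroupOf (CJ a b)).index = 2 := by
  obtain ⟨g, hg, hga, hgb⟩ := exists_swap hD hprim h24 ha hb
  rw [Subgroup.index_eq_two_iff]
  refine ⟨⟨g, hg⟩, fun x => ?_⟩
  simp only [Subgroup.mem_subgroupOf, Subgroup.coe_mul]
  have hab : a ≠ b := hb.2.1.symm
  have hxg : ∀ t : G, (x : G) * g * t * ((x : G) * g)⁻¹ = x * (g * t * g⁻¹) * (x : G)⁻¹ :=
    fun t => by group
  have fix' : ∀ {t y : G}, t ∈ K a b → y ∈ ({a, b} : Set G) → t * y * t⁻¹ = y := fun ht hy =>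
    mul_inv_eq_iff_eq_mul.2 ((mem_K.1 ht).elim fun _ h => by
      rcases hy with e | e
      · rw [e]; exact h.1.eq.symm
      · rw [Set.mem_singleton_iff.1 e]; exact h.2.eq.symm)
  rcases cases' hD hprim h24 ha hb x.2 with ⟨h1, h2⟩ | ⟨h1, h2⟩
  · refine Or.inr ⟨mem_K_of_fix hD hprim h24 ha hb x.2 h1 h2, fun h => hab ?_⟩
    have := fix' h (Set.mem_insert a _)
    rw [hxg, hga, h2] at this
    exact this.symm
  · refine Or.inl ⟨mem_K_of_fix hD hprim h24 ha hb (mul_mem x.2 hg) (by rw [hxg, hga, h2])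
      (by rw [hxg, hgb, h1]), fun h => hab ?_⟩
    have := fix' h (Set.mem_insert a _)
    rw [h1] at this
    exact this.symm

theorem centralizer_le :
    Subgroup.centralizer ((K a b).subgroupOf (CJ a b) : Set ↥(CJ a b)) ≤
      (K a b).subgroupOf (CJ a b) := by
  intro z hz
  rw [Subgroup.mem_subgroupOf]
  rcases cases' hD hprim h24 ha hb z.2 with ⟨h1, h2⟩ | ⟨h1, h2⟩
  · exact mem_K_of_fix hD hprim h24 ha hb z.2 h1 h2
  exfalso
  obtain ⟨x, hx⟩ := Set.nonempty_of_ncard_ne_zero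
    ((Graph.ncard_one hD hprim h24 ha hb).trans_ne (by norm_num : (3510 : ℕ) ≠ 0))
  have hxa : x * a ∈ K a b :=
    mem_K.2 ⟨(Triple.mem_or hD hprim ha x).resolve_left (Sign.not_mem_commutator hD hprim h24 x hx.1.1),
      hx.1.2.2.mul_right (Commute.refl a), hx.2.2.2.mul_right hb.2.2.symm⟩
  have h := congrArg Subtype.val (Subgroup.mem_centralizer_iff.1 hz
    (⟨x * a, K_le hxa⟩ : ↥(CJ a b)) (Subgroup.mem_subgroupOf.2 hxa))
  simp only [Subgroup.coe_mul] at h
  have h' : (z : G) * x * (z : G)⁻¹ * b = x * a :=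
    calc (z : G) * x * (z : G)⁻¹ * b = (z : G) * x * (z : G)⁻¹ * ((z : G) * a * (z : G)⁻¹) :=
          (congrArg ((z : G) * x * (z : G)⁻¹ * ·) h1).symm
      _ = (z : G) * (x * a) * (z : G)⁻¹ := by group
      _ = x * a := by rw [← h, mul_inv_cancel_right]
  have hc : Commute ((z : G) * x * (z : G)⁻¹) b :=
    h1.subst (motive := fun t => Commute ((z : G) * x * (z : G)⁻¹) t)
      ((ThreeTransp.Basic.commute_conj (g := (z : G))).2 hx.1.2.2.symm)
  rcases Factor.pair_unique hD ((Factor.M24_rel hD hprim h24).mono (by norm_num)) hx.1.1 ha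
    (hD.2.1 _ x hx.1.1) hb.1 hx.1.2.1 (fun e => hx.1.2.1 ((MulAut.conj (z : G)).injective
      (show (z : G) * x * (z : G)⁻¹ = (z : G) * a * (z : G)⁻¹ from e.trans h1.symm)))
    hx.1.2.2.symm hc h'.symm with ⟨-, e⟩ | ⟨-, e⟩
  · exact hb.2.1 e
  · exact hx.2.2.1 e.symm

theorem card_mulAut :
    Nat.card (MulAut Cfsg.Spor.Fi22) = 2 * Nat.card Cfsg.Spor.Fi22 := by
  have hinj : Function.Injective (MulAut.conj : Cfsg.Spor.Fi22 →* MulAut Cfsg.Spor.Fi22) := by
    refine (injective_iff_map_eq_one _).2 fun g hg => ?_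
    have hz : g ∈ Subgroup.center Cfsg.Spor.Fi22 := Subgroup.mem_center_iff.2 fun x =>
      (mul_inv_eq_iff_eq_mul.1 (DFunLike.congr_fun hg x)).symm
    rw [Fi22Model.type22.1] at hz
    exact hz
  rw [Subgroup.card_eq_card_quotient_mul_card_subgroup (Cfsg.Inn Cfsg.Spor.Fi22),
    ← Nat.card_congr (MonoidHom.ofInjective hinj).toEquiv]
  exact congrArg (· * _) InvChar.Coset.FiOut.card_out

/-- The structure of the centraliser of the product. -/
theorem structure_CJ :
    (Cfsg.generalizedFittingSubgroup ↥(CJ a b)).map (CJ a b).subtype = K a b ∧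
      ∀ _ : ((Subgroup.zpowers (a * b)).subgroupOf (CJ a b)).Normal,
        Nonempty (↥(CJ a b) ⧸ (Subgroup.zpowers (a * b)).subgroupOf (CJ a b) ≃*
          MulAut Cfsg.Spor.Fi22) := by
  set N := (K a b).subgroupOf (CJ a b) with hN
  have hNi : N.index = 2 := index_two hD hprim h24 ha hb
  haveI hn : N.Normal := Subgroup.normal_of_index_eq_two hNi
  let eN : ↥N ≃* ↥(K a b) := Subgroup.subgroupOfEquivOfLe K_le
  have hq : Cfsg.IsQuasisimple ↥N :=
    Basic.quasisimple_of_mulEquiv eN.symm (quasisimple hD hprim h24 ha hb)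
  have hcent := centralizer_le hD hprim h24 ha hb
  refine ⟨by rw [Triple.genFitting_eq N hq hcent]; exact Subgroup.map_subgroupOf_eq_of_le K_le,
    fun _ => ?_⟩
  have hker : (Triple.act N).ker = (Subgroup.zpowers (a * b)).subgroupOf (CJ a b) := by
    ext g
    rw [Triple.mem_act_ker N hq.1.commutator_eq_top hcent, Subgroup.mem_subgroupOf,
      ← center_map hD hprim h24 ha hb]
    constructor
    · rintro ⟨z, hz, rfl⟩
      refine ⟨eN z, Subgroup.mem_center_iff.2 fun k => ?_, rfl⟩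
      obtain ⟨k, rfl⟩ := eN.surjective k
      rw [← map_mul, ← map_mul, Subgroup.mem_center_iff.1 hz k]
    · rintro ⟨z, hz, hze⟩
      refine ⟨eN.symm z, Subgroup.mem_center_iff.2 fun k => ?_, Subtype.ext hze⟩
      obtain ⟨k, rfl⟩ := eN.symm.surjective k
      rw [← map_mul, ← map_mul, Subgroup.mem_center_iff.1 hz k]
  obtain ⟨φ⟩ := quotient_iso hD hprim h24 ha hb
  obtain ⟨ψ⟩ := Basic.quotient_center_equiv eN
  let eU : (↥N ⧸ Subgroup.center ↥N) ≃* Cfsg.Spor.Fi22 := ψ.trans φ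
  let π : ↥(CJ a b) →* MulAut Cfsg.Spor.Fi22 := (MulAut.congr eU).toMonoidHom.comp (Triple.act N)
  have hπk : π.ker = (Subgroup.zpowers (a * b)).subgroupOf (CJ a b) := by
    rw [← hker]
    ext g
    exact (MulAut.congr eU).map_eq_one_iff
  have hπs : Function.Surjective π := by
    haveI : Finite Cfsg.Spor.Fi22 := InvChar.Coset.FiUnit.finite_Fi
    haveI : Finite (MulAut Cfsg.Spor.Fi22) := Finite.of_injective _ MulEquiv.toEquiv_injective
    rw [← MonoidHom.range_eq_top]
    refine Subgroup.eq_top_of_card_eq _ ?_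
    rw [card_mulAut hD hprim h24 ha hb, ← Nat.card_congr eU.toEquiv, ← Subgroup.index_ker]
    have hZc : Nat.card ↥π.ker = Nat.card ↥(Subgroup.center ↥N) := by
      rw [show π.ker = (Subgroup.center ↥N).map N.subtype from by
        rw [hπk, ← hker]; ext g; exact Triple.mem_act_ker N hq.1.commutator_eq_top hcent]
      exact Subgroup.card_map_of_injective N.subtype_injective
    have e1 := π.ker.index_mul_card
    rw [hZc, ← N.index_mul_card, hNi, Subgroup.card_eq_card_quotient_mul_card_subgroup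
      (Subgroup.center ↥N), ← mul_assoc] at e1
    exact Nat.eq_of_mul_eq_mul_right Nat.card_pos e1
  exact ⟨(QuotientGroup.quotientMulEquivOfEq hπk.symm).trans
    (QuotientGroup.quotientKerEquivOfSurjective π hπs)⟩

end Cfsg.Agent.ThreeTransp.M24.Pair
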