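import Cfsg.Agent.Lib.ThreeTransp.M24.Involutions
import Cfsg.Agent.Lib.ThreeTransp.M22.Unique

/-!
In a group of type M(24) the given class is the only generating class of 3-transpositions.
-/

set_option autoImplicit false
set_option linter.unusedSectionVars false

namespace Cfsg.Agent.ThreeTransp.M24

open Cfsg.Agent.ThreeTransp
open Cfsg.Agent.ThreeTransp.Factor (nb Hd mem_Hd Sd Dq Dl Sep Rel Hd_commute)
open Cfsg.Agent.GenA.Tower (pr pr_mem pr_comm pr_nb image_nb_pr)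
open Cfsg.Agent.ThreeTransp.M22 (IsProd)

universe u

variable {G : Type u} [Group G] [Finite G] {D : Set G}
variable (hD : Cfsg.IsThreeTranspositionGroup D) (B : Base D)
  (hprim : Cfsg.IsPrimitiveUnderConj D)
include hD B hprim

theorem exists_config : ∃ a b c d e f : G, a ∈ D ∧ c ∈ D ∧ b ∈ nb D a ∧ ¬ Commute a c ∧
    ¬ Commute b c ∧ d ∈ nb D a ∩ nb D b ∩ nb D c ∧ e ∈ nb D a ∩ nb D b ∩ nb D c ∩ nb D d ∧
    f ∈ nb D a ∩ nb D b ∩ nb D c ∩ nb D d ∩ nb D e := by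
  obtain ⟨d, hd, -⟩ := hprim.2.1
  obtain ⟨e, he⟩ := nb_nonempty hD B hd
  have hs := B.sep d hd
  have hgM := grp hD B hd
  have BM := base_at hD B hd
  have hE : pr D d e ∈ Dq D d := pr_mem he
  have hs' := BM.sep _ hE
  obtain ⟨A, C, X, Y, Z, hA, hC, hAC, hX, hY, hZ, hZC⟩ :=
    M22.exists_config (M23.grp hgM BM hE) (BM.prim _ hE) (BM.m22 _ hE)
  have lift : ∀ W ∈ Dq (Dq D d) (pr D d e), ∃ w, w ∈ nb D d ∧ w ∈ nb D e ∧
      pr D d w ∈ nb (Dq D d) (pr D d e) ∧ pr (Dq D d) (pr D d e) (pr D d w) = W := by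
    intro W hW
    obtain ⟨V, hV, rfl⟩ := exists_pre hW
    obtain ⟨w, hw, rfl⟩ := exists_pre hV.1
    exact ⟨w, hw, (pr_nb hD hs he hw).1 hV, hV, rfl⟩
  obtain ⟨a, had, hae, ha', rfl⟩ := lift A hA
  obtain ⟨c, hcd, hce, hc', rfl⟩ := lift C hC
  obtain ⟨f, hfd, hfe, hf', rfl⟩ := lift X hX.1.1
  obtain ⟨b, hbd, hbe, hb', rfl⟩ := lift Z hZ.1.1.1
  have com : ∀ {p q : G}, p ∈ nb D d → q ∈ nb D d → pr D d p ∈ nb (Dq D d) (pr D d e) →
      pr D d q ∈ nb (Dq D d) (pr D d e) →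
      (Commute (pr (Dq D d) (pr D d e) (pr D d p)) (pr (Dq D d) (pr D d e) (pr D d q)) ↔
        Commute p q) := fun {p q} hp hq hp' hq' =>
    (pr_comm hgM hp' hq').trans (pr_comm hD hp hq)
  have nbs : ∀ {p q : G}, p ∈ nb D d → q ∈ nb D d → pr D d p ∈ nb (Dq D d) (pr D d e) →
      pr D d q ∈ nb (Dq D d) (pr D d e) →
      pr (Dq D d) (pr D d e) (pr D d q) ∈
        nb (Dq (Dq D d) (pr D d e)) (pr (Dq D d) (pr D d e) (pr D d p)) → q ∈ nb D p :=
    fun {p q} hp hq hp' hq' h => (pr_nb hD hs hp hq).1 ((pr_nb hgM hs' hp' hq').1 h)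
  refine ⟨a, b, c, d, e, f, had.1, hcd.1, nbs had hbd ha' hb' hZ.1.1,
    fun h => hAC ((com had hcd ha' hc').2 h), fun h => hZC ((com hbd hcd hb' hc').2 h), ?_, ?_, ?_⟩
  · exact ⟨⟨Cover.mem_nb_symm hd had, Cover.mem_nb_symm hd hbd⟩, Cover.mem_nb_symm hd hcd⟩
  · exact ⟨⟨⟨Cover.mem_nb_symm he.1 hae, Cover.mem_nb_symm he.1 hbe⟩,
      Cover.mem_nb_symm he.1 hce⟩, he⟩
  · exact ⟨⟨⟨⟨nbs had hfd ha' hf' hX.1,
      Cover.mem_nb_symm hfd.1 (nbs hfd hbd hf' hb' hZ.1.2)⟩,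
      nbs hcd hfd hc' hf' hX.2⟩, hfd⟩, hfe⟩

/-- The given class is the only one. -/
theorem unique_class (h7 : Rel 7 D) (hZG : Subgroup.center G = ⊥) {D' : Set G}
    (hD' : Cfsg.IsThreeTranspositionClass D') : D' = D := by
  obtain ⟨hset, ⟨x, hx, hcls⟩, -⟩ := hD'
  have conj : ∀ y : G, IsConj x y → y ∈ D' := fun y h => by rw [hcls]; exact h
  obtain ⟨m, hm1, hm4, hm⟩ := exists_prod hD B hprim hZG (hset.1 x hx)
  have mem : ∀ y, IsProd D m y → y ∈ D' := fun y hy =>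
    conj y (prod_conj hD B hprim hZG h7 hm1 hm4 hm hy)
  by_cases h1 : m = 1
  · subst h1
    obtain ⟨l, -, hl, hlD, -, hp⟩ := hm
    obtain ⟨p, rfl⟩ := List.length_eq_one_iff.1 hl
    have hxD : x ∈ D := by rw [← hp]; simpa using hlD
    rw [hcls]
    ext y
    refine ⟨fun hy => ?_, fun hy => isConj_iff.2 (hprim.1 x hxD y hy)⟩
    obtain ⟨g, rfl⟩ := isConj_iff.1 hy
    exact hD.2.1 g x hxD
  exfalso
  obtain ⟨a, b, c, d, e, f, ha, hc, hb, hac, hbc, ⟨⟨hda, hdb⟩, hdc⟩, ⟨⟨⟨hea, heb⟩, hec⟩, hed⟩,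
    ⟨⟨⟨⟨hfa, hfb⟩, hfc⟩, hfd⟩, hfe⟩⟩ := exists_config hD B hprim
  have bad : ∀ z, z ∈ D → Commute z a → Commute z b → Commute z c →
      ¬ ((a * b * c * z) ^ 2 = 1 ∨ (a * b * c * z) ^ 3 = 1) := fun z hz za zb zc =>
    M22.abc_bad hD.1 ha hb.1 hc hb.2.1.symm hb.2.2 hac hbc (Basic.sq hD.1 hz)
      ((za.symm.mul_left zb.symm).mul_left zc.symm)
  have two : ∀ p q, q ∈ nb D p → p ∈ D → IsProd D 2 (p * q) := fun p q hq hp =>
    ⟨[p, q], by simp [hq.2.1.symm], rfl, by simp [hp, hq.1], by simp [hq.2.2, hq.2.2.symm], by simp⟩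
  interval_cases m
  · exact absurd rfl h1
  · have h := hset.2 _ (mem _ (two a b hb ha)) _ (mem _ (two c d hdc hc))
    rw [← mul_assoc] at h
    exact bad d hdc.1 hda.2.2.symm hdb.2.2.symm hdc.2.2.symm h
  · have t1 : IsProd D 3 (a * b * d) := ⟨[a, b, d],
      by simp [hb.2.1.symm, hda.2.1.symm, hdb.2.1.symm], rfl, by simp [ha, hb.1, hda.1],
      by simp [hb.2.2, hb.2.2.symm, hda.2.2, hda.2.2.symm, hdb.2.2, hdb.2.2.symm],
      by simp [mul_assoc]⟩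
    have t2 : IsProd D 3 (c * d * f) := ⟨[c, d, f],
      by simp [hdc.2.1.symm, hfc.2.1.symm, hfd.2.1.symm], rfl, by simp [hc, hdc.1, hfc.1],
      by simp [hdc.2.2, hdc.2.2.symm, hfc.2.2, hfc.2.2.symm, hfd.2.2, hfd.2.2.symm],
      by simp [mul_assoc]⟩
    have h := hset.2 _ (mem _ t1) _ (mem _ t2)
    have he : a * b * d * (c * d * f) = a * b * c * f := by
      calc a * b * d * (c * d * f) = a * b * (d * c) * d * f := by simp [mul_assoc]
        _ = a * b * c * ((d * d) * f) := by rw [← hdc.2.2.eq]; simp [mul_assoc]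
        _ = a * b * c * f := by rw [Basic.sq hD.1 hdc.1, one_mul]
    rw [he] at h
    exact bad f hfc.1 hfa.2.2.symm hfb.2.2.symm hfc.2.2.symm h
  · have t1 : IsProd D 4 (a * b * d * e) := ⟨[a, b, d, e],
      by simp [hb.2.1.symm, hda.2.1.symm, hdb.2.1.symm, hea.2.1.symm, heb.2.1.symm, hed.2.1.symm],
      rfl, by simp [ha, hb.1, hda.1, hea.1],
      by simp [hb.2.2, hb.2.2.symm, hda.2.2, hda.2.2.symm, hdb.2.2, hdb.2.2.symm, hea.2.2,
        hea.2.2.symm, heb.2.2, heb.2.2.symm, hed.2.2, hed.2.2.symm],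
      by simp [mul_assoc]⟩
    have t2 : IsProd D 4 (c * d * e * f) := ⟨[c, d, e, f],
      by simp [hdc.2.1.symm, hec.2.1.symm, hed.2.1.symm, hfc.2.1.symm, hfd.2.1.symm, hfe.2.1.symm],
      rfl, by simp [hc, hdc.1, hec.1, hfc.1],
      by simp [hdc.2.2, hdc.2.2.symm, hec.2.2, hec.2.2.symm, hed.2.2, hed.2.2.symm, hfc.2.2,
        hfc.2.2.symm, hfd.2.2, hfd.2.2.symm, hfe.2.2, hfe.2.2.symm],
      by simp [mul_assoc]⟩
    have h := hset.2 _ (mem _ t1) _ (mem _ t2)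
    have hde : (d * e) * (d * e) = 1 := by
      rw [← pow_two, hed.2.2.mul_pow, pow_two, pow_two, Basic.sq hD.1 hdc.1, Basic.sq hD.1 hec.1,
        one_mul]
    have he : a * b * d * e * (c * d * e * f) = a * b * c * f := by
      calc a * b * d * e * (c * d * e * f) = a * b * ((d * e) * c) * (d * e) * f := by
            simp [mul_assoc]
        _ = a * b * c * (((d * e) * (d * e)) * f) := by
            rw [(hdc.2.2.symm.mul_left hec.2.2.symm).eq]; simp [mul_assoc]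
        _ = a * b * c * f := by rw [hde, one_mul]
    rw [he] at h
    exact bad f hfc.1 hfa.2.2.symm hfb.2.2.symm hfc.2.2.symm h

end Cfsg.Agent.ThreeTransp.M24
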